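import Groth.Agent.Lib.DepthExt20.Basic
import Groth.Agent.Lib.ExtBC.Basic
import Groth.Agent.Lib.Serre.Regular
import Groth.Agent.Lib.CatCM.Basic
import Groth.Agent.Lib.CMFree.FiniteFlat

/-!
# Vanishing criteria for `Ext` of finite modules
-/

set_option autoImplicit false
set_option maxHeartbeats 400000
set_option linter.style.haveILetI false
set_option linter.overlappingInstances false
set_option linter.unusedSectionVars false

universe u

open CategoryTheory CategoryTheory.Abelian TensorProduct

namespace GrothLib.ExtZTilde20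

variable {A : Type u} [CommRing A]

/-- Vanishing of `Ext` only depends on the isomorphism classes. -/
theorem subsingleton_ext_of_iso {Q Q' N N' : ModuleCat.{u} A} (a : Q ≅ Q') (b : N ≅ N') (i : ℕ)
    [Subsingleton (Ext Q' N' i)] : Subsingleton (Ext Q N i) := by
  refine Function.Injective.subsingleton
    (f := fun x => (Ext.mk₀ a.inv).comp (x.comp (Ext.mk₀ b.hom) (add_zero i)) (zero_add i)) fun x y h => ?_
  have h2 := congrArg (fun z => (Ext.mk₀ a.hom).comp (z.comp (Ext.mk₀ b.inv) (add_zero i)) (zero_add i)) h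
  simpa using h2

variable [IsNoetherianRing A] (Q N : Type u) [AddCommGroup Q] [Module A Q] [AddCommGroup N] [Module A N]
  [Module.Finite A Q] [Module.Finite A N]

/-- Depth at the points of the support bounds the degrees where `Ext` is nonzero. -/
theorem subsingleton_ext_of_forall_depth {n i : ℕ} (hi : i < n)
    (h : ∀ p ∈ Module.support A Q,
      (n : ℕ∞) ≤ LocCoh.depth (Localization.AtPrime p.asIdeal) (LocalizedModule p.asIdeal.primeCompl N)) :
    Subsingleton (Ext (ModuleCat.of A Q) (ModuleCat.of A N) i) := by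
  refine DepthExt20.subsingleton_ext_of_le_idealDepth (M := N) Q
    (DepthExt20.le_idealDepth_of_forall_depth _ fun p hp => h p ?_) i hi
  rw [Module.support_eq_zeroLocus]
  exact hp

omit [Module.Finite A N] in
/-- Vanishing of `Ext` is local on the support. -/
theorem subsingleton_ext_of_forall_localization (i : ℕ)
    (h : ∀ p ∈ Module.support A Q,
      Subsingleton (Ext (ModuleCat.of (Localization.AtPrime p.asIdeal) (Localization.AtPrime p.asIdeal ⊗[A] Q))
        (ModuleCat.of (Localization.AtPrime p.asIdeal) (Localization.AtPrime p.asIdeal ⊗[A] N)) i)) :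
    Subsingleton (Ext (ModuleCat.of A Q) (ModuleCat.of A N) i) := by
  rw [← Module.support_eq_empty_iff (R := A)]
  refine Set.eq_empty_iff_forall_notMem.2 fun p hp => ?_
  let B := Localization.AtPrime p.asIdeal
  obtain ⟨e⟩ := ExtBC.nonempty_baseChange_ext (A := A) B N i Q
  have hB : Subsingleton (B ⊗[A] Ext (ModuleCat.of A Q) (ModuleCat.of A N) i) := by
    suffices hs : Subsingleton (Ext (ModuleCat.of B (B ⊗[A] Q)) (ModuleCat.of B (B ⊗[A] N)) i) from
      e.toEquiv.subsingleton
    by_cases hpQ : p ∈ Module.support A Q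
    · exact h p hpQ
    · rw [Module.notMem_support_iff] at hpQ
      haveI : Subsingleton (B ⊗[A] Q) := (IsLocalizedModule.linearEquiv p.asIdeal.primeCompl
        (TensorProduct.mk A B Q 1) (LocalizedModule.mkLinearMap p.asIdeal.primeCompl Q)).toEquiv.subsingleton
      refine subsingleton_of_forall_eq 0 fun x => ?_
      have h0 : 𝟙 (ModuleCat.of B (B ⊗[A] Q)) = 0 :=
        (ModuleCat.isZero_of_subsingleton _).eq_of_src _ _
      rw [← Ext.mk₀_id_comp x, h0, Ext.mk₀_zero, Ext.zero_comp]
  haveI := hB
  refine @false_of_nontrivial_of_subsingleton _ (Module.mem_support_iff.1 hp) ?_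
  exact
    (IsLocalizedModule.linearEquiv p.asIdeal.primeCompl
      (LocalizedModule.mkLinearMap p.asIdeal.primeCompl _) (TensorProduct.mk A B _ 1)).toEquiv.subsingleton

omit [Module.Finite A N] in
/-- Above the dimension `Ext` vanishes over a regular ring. -/
theorem subsingleton_ext_of_height_lt [IsRegularRing A] (i : ℕ)
    (h : ∀ p ∈ Module.support A Q, p.asIdeal.height < (i : ℕ∞)) :
    Subsingleton (Ext (ModuleCat.of A Q) (ModuleCat.of A N) i) := by
  refine subsingleton_ext_of_forall_localization Q N i fun p hp => ?_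
  obtain ⟨d, hd⟩ := ENat.ne_top_iff_exists.1 (ne_top_of_lt (h p hp))
  have hdi : d < i := by exact_mod_cast hd ▸ h p hp
  have hdim : ringKrullDim (Localization.AtPrime p.asIdeal) = d := by
    rw [IsLocalization.AtPrime.ringKrullDim_eq_height p.asIdeal, ← hd]; rfl
  haveI : IsRegularLocalRing (Localization.AtPrime p.asIdeal) :=
    IsRegularRing.isRegularLocalRing_localization _
  have hpd := Serre.pdLE_of_isRegularLocalRing (Localization.AtPrime p.asIdeal) d hdim
    (Localization.AtPrime p.asIdeal ⊗[A] Q)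
  exact HasProjectiveDimensionLT.subsingleton _ (d + 1) i hdi _

/-- Intermediate heights occur between comparable primes of a Cohen–Macaulay ring. -/
theorem exists_height_eq [LocCoh.IsCohenMacaulayRing A] {q p : PrimeSpectrum A} (hqp : q ≤ p) (i : ℕ)
    (hq : q.asIdeal.height ≤ (i : ℕ∞)) (hp : (i : ℕ∞) ≤ p.asIdeal.height) :
    ∃ r : PrimeSpectrum A, q ≤ r ∧ r.asIdeal.height = (i : ℕ∞) := by
  obtain ⟨r, ⟨hqr, hir⟩, hmin⟩ := exists_minimalFor_of_wellFoundedLT
    (fun r : PrimeSpectrum A => q ≤ r ∧ (i : ℕ∞) ≤ r.asIdeal.height) (fun r => r.asIdeal.height) ⟨p, hqp, hp⟩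
  refine ⟨r, hqr, le_antisymm (not_lt.1 fun hlt => ?_) hir⟩
  have hne : q ≠ r := fun e => (hlt.trans_le (e ▸ hq)).false
  have hlt' : q < r := lt_of_le_of_ne hqr hne
  obtain ⟨I, ⟨hI, hqI, hIr⟩, hmax⟩ := exists_maximal_of_wellFoundedGT
    (fun I : Ideal A => I.IsPrime ∧ q.asIdeal ≤ I ∧ I < r.asIdeal) ⟨q.asIdeal, q.2, le_rfl, hlt'⟩
  let s : PrimeSpectrum A := ⟨I, hI⟩
  have hcov : s ⋖ r := ⟨hIr, fun t hst htr =>
    (hst.not_ge (hmax ⟨t.2, hqI.trans hst.le, htr⟩ hst.le))⟩
  have hs : (i : ℕ∞) ≤ s.asIdeal.height := by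
    have h1 := CatCM.height_covBy hcov
    rw [h1] at hlt
    exact (ENat.lt_add_one_iff (Ideal.height_ne_top_of_isPrime (I := s.asIdeal))).1 hlt
  have h2 : s.asIdeal.height + 1 ≤ r.asIdeal.height := Ideal.height_add_one_le_of_lt_of_isPrime hIr
  have h3 : r.asIdeal.height ≤ s.asIdeal.height := hmin ⟨hqI, hs⟩ ((self_le_add_right _ _).trans h2)
  exact ((ENat.lt_add_one_iff (Ideal.height_ne_top_of_isPrime (I := s.asIdeal))).2 le_rfl).not_ge
    (h2.trans h3)

omit [IsNoetherianRing A] in
theorem mem_support_of_baseChange (B : Type u) [CommRing B] [Algebra A B] (q : PrimeSpectrum B)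
    (hq : q ∈ Module.support B (B ⊗[A] Q)) : PrimeSpectrum.comap (algebraMap A B) q ∈ Module.support A Q := by
  contrapose! hq
  rw [Module.notMem_support_iff'] at hq ⊢
  intro x
  induction x using TensorProduct.induction_on with
  | zero => exact ⟨1, fun h => q.2.ne_top ((Ideal.eq_top_iff_one _).2 h), one_smul _ _⟩
  | tmul b m =>
    obtain ⟨r, hr, hrm⟩ := hq m
    refine ⟨algebraMap A B r, hr, ?_⟩
    rw [algebraMap_smul, ← TensorProduct.tmul_smul, hrm, TensorProduct.tmul_zero]
  | add x y hx hy =>
    obtain ⟨r, hr, hrx⟩ := hx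
    obtain ⟨s, hs, hsy⟩ := hy
    refine ⟨r * s, fun h => (q.2.mem_or_mem h).elim hr hs, ?_⟩
    rw [smul_add, mul_comm r s, mul_smul, hrx, smul_zero, zero_add, mul_comm s r, mul_smul, hsy, smul_zero]

/-- Over a regular ring `Ext^i(Q, A)` vanishes if no point of the support has height `i`. -/
theorem subsingleton_ext_self_of_height_ne [IsRegularRing A] (i : ℕ)
    (h : ∀ p ∈ Module.support A Q, p.asIdeal.height ≠ (i : ℕ∞)) :
    Subsingleton (Ext (ModuleCat.of A Q) (ModuleCat.of A A) i) := by
  haveI : LocCoh.IsCohenMacaulayRing A := CMFree.isCohenMacaulayRing_of_finite_flat A A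
  refine subsingleton_ext_of_forall_localization Q A i fun p hp => ?_
  let B := Localization.AtPrime p.asIdeal
  rcases (h p hp).lt_or_gt with hlt | hgt
  · obtain ⟨d, hd⟩ := ENat.ne_top_iff_exists.1 (ne_top_of_lt hlt)
    have hdi : d < i := by exact_mod_cast hd ▸ hlt
    have hdim : ringKrullDim B = d := by
      rw [IsLocalization.AtPrime.ringKrullDim_eq_height p.asIdeal B, ← hd]; rfl
    haveI : IsRegularLocalRing B := IsRegularRing.isRegularLocalRing_localization _
    have hpd := Serre.pdLE_of_isRegularLocalRing B d hdim (B ⊗[A] Q)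
    exact HasProjectiveDimensionLT.subsingleton _ (d + 1) i hdi _
  · haveI : IsRegularRing B := isRegularRing_iff.2 fun q _ =>
      IsRegularLocalRing.of_ringEquiv
        (IsLocalization.localizationLocalizationAtPrimeIsoLocalization p.asIdeal.primeCompl q).toRingEquiv
    haveI : LocCoh.IsCohenMacaulayRing B := CMFree.isCohenMacaulayRing_of_finite_flat B B
    haveI : Subsingleton (Ext (ModuleCat.of B (B ⊗[A] Q)) (ModuleCat.of B B) i) := by
      refine subsingleton_ext_of_forall_depth (B ⊗[A] Q) B (Nat.lt_succ_self i) fun q hq => ?_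
      have hqA := mem_support_of_baseChange Q B q hq
      have hle : PrimeSpectrum.comap (algebraMap A B) q ≤ p := by
        show q.asIdeal.comap (algebraMap A B) ≤ p.asIdeal
        refine le_of_le_of_eq (Ideal.comap_mono (IsLocalRing.le_maximalIdeal q.2.ne_top)) ?_
        exact IsLocalization.AtPrime.comap_maximalIdeal B p.asIdeal
      have hh : ((i + 1 : ℕ) : ℕ∞) ≤ q.asIdeal.height := by
        rw [← IsLocalization.height_under p.asIdeal.primeCompl q.asIdeal]
        by_contra hc
        rw [not_le, Nat.cast_add, Nat.cast_one, ENat.lt_add_one_iff (ENat.natCast_ne_top i)] at hc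
        obtain ⟨r, hr, hri⟩ := exists_height_eq hle i hc hgt.le
        exact h r (Module.mem_support_mono hr hqA) hri
      let C := Localization.AtPrime q.asIdeal
      haveI : LocCoh.IsCohenMacaulayLocalRing C :=
        LocCoh.IsCohenMacaulayRing.isCohenMacaulayLocalRing_localization q.asIdeal
      have hd := LocCoh.IsCohenMacaulayLocalRing.supportDim_eq_depth (R := C)
      rw [Module.supportDim_self_eq_ringKrullDim,
        IsLocalization.AtPrime.ringKrullDim_eq_height q.asIdeal C] at hd
      exact hh.trans (WithBot.coe_le_coe.1 hd.le)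
    exact subsingleton_ext_of_iso (Iso.refl _)
      (TensorProduct.AlgebraTensorModule.rid A B B).toModuleIso i

end GrothLib.ExtZTilde20
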