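import Groth.Agent.Lib.ExtZTilde20.Main
import Groth.Agent.Lib.ExtZTilde20.Vanish

/-!
# Local rings at the points of an affine open
-/

set_option autoImplicit false
set_option maxHeartbeats 400000
set_option linter.style.haveILetI false
set_option backward.isDefEq.respectTransparency false

universe u

open AlgebraicGeometry CategoryTheory

namespace GrothLib.ExtZTilde20

open ExtTilde20

variable {X : Scheme.{u}} {W : X.Opens} (hW : IsAffineOpen W)

theorem fromSpec_mem (p : Spec Γ(X, W)) : hW.fromSpec p ∈ W :=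
  SetLike.mem_coe.1 (hW.range_fromSpec ▸ Set.mem_range_self p)

theorem primeAt_fromSpec_eq (p : Spec Γ(X, W)) (hp : hW.fromSpec p ∈ W) :
    WeakAss.primeAt (hW.fromSpec p) hp = p.asIdeal :=
  congrArg PrimeSpectrum.asIdeal ((QCoh.primeAt_eq_primeIdealOf hW hp).trans
    (hW.fromSpec.isOpenEmbedding.injective (hW.fromSpec_primeIdealOf ⟨_, hp⟩)))

theorem depth_secMod [IsLocallyNoetherian X] (G : X.Modules) (hG : Coh.IsCoh G) (p : Spec Γ(X, W)) :
    LocCoh.depth (Localization.AtPrime p.asIdeal) (LocalizedModule p.asIdeal.primeCompl Γ(G, W)) =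
      LocCoh.depth (X.presheaf.stalk (hW.fromSpec p)) (G.presheaf.stalk (hW.fromSpec p)) := by
  rw [DepthExt20.depth_stalk_eq G hG hW (fromSpec_mem hW p)]
  have key : ∀ (I : Ideal Γ(X, W)) [I.IsPrime], I = p.asIdeal →
      LocCoh.depth (Localization.AtPrime p.asIdeal) (LocalizedModule p.asIdeal.primeCompl Γ(G, W)) =
        LocCoh.depth (Localization.AtPrime I) (LocalizedModule I.primeCompl Γ(G, W)) := by
    rintro I _ rfl; rfl
  exact key _ (primeAt_fromSpec_eq hW p (fromSpec_mem hW p))

include hW in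
theorem height_eq_ringKrullDim_stalk (p : Spec Γ(X, W)) :
    (p.asIdeal.height : WithBot ℕ∞) = ringKrullDim (X.presheaf.stalk (hW.fromSpec p)) := by
  letI := X.presheaf.algebra_section_stalk ⟨hW.fromSpec p, fromSpec_mem hW p⟩
  haveI := FlatFP.isLocalization_stalk_primeAt hW (fromSpec_mem hW p)
  rw [IsLocalization.AtPrime.ringKrullDim_eq_height (WeakAss.primeAt (hW.fromSpec p) (fromSpec_mem hW p))
    (X.presheaf.stalk (hW.fromSpec p)), primeAt_fromSpec_eq hW p (fromSpec_mem hW p)]

include hW in
theorem isRegularRing_sections [IsLocallyNoetherian X]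
    (hreg : ∀ x : X, IsRegularLocalRing (X.presheaf.stalk x)) : IsRegularRing Γ(X, W) := by
  haveI : IsNoetherianRing Γ(X, W) := IsLocallyNoetherian.component_noetherian ⟨W, hW⟩
  refine isRegularRing_iff.2 fun I hI => ?_
  let p : Spec Γ(X, W) := ⟨I, hI⟩
  letI := X.presheaf.algebra_section_stalk ⟨hW.fromSpec p, fromSpec_mem hW p⟩
  haveI := FlatFP.isLocalization_stalk_primeAt hW (fromSpec_mem hW p)
  haveI := hreg (hW.fromSpec p)
  have key : ∀ (J : Ideal Γ(X, W)) [J.IsPrime], J = I →
      IsRegularLocalRing (Localization.AtPrime J) → IsRegularLocalRing (Localization.AtPrime I) := by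
    rintro J _ rfl h; exact h
  refine key _ (primeAt_fromSpec_eq hW p (fromSpec_mem hW p)) ?_
  exact IsRegularLocalRing.of_ringEquiv (IsLocalization.algEquiv
    (WeakAss.primeAt (hW.fromSpec p) (fromSpec_mem hW p)).primeCompl
    (X.presheaf.stalk (hW.fromSpec p)) (Localization.AtPrime _)).toRingEquiv

end GrothLib.ExtZTilde20
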