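import Groth.Agent.Lib.ExtZTilde20.SectTilde
import Groth.Agent.Lib.ExtTilde20.Main
import Groth.Agent.Lib.InjTilde20.Main
import Groth.Agent.Lib.HomSES20.Hom
import Groth.Agent.Lib.ModSupp25.Derived

/-!
# `ℰxt_Z(M~, N~)` on a Noetherian affine scheme
-/

set_option autoImplicit false
set_option maxHeartbeats 400000
set_option linter.style.haveILetI false
set_option backward.isDefEq.respectTransparency false

universe u

open CategoryTheory CategoryTheory.Limits MonoidalCategory AlgebraicGeometry Opposite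

namespace GrothLib.ExtZTilde20

open ExtTilde20 OX

variable {R : CommRingCat.{u}} (M : ModuleCat.{u} R)
  [ModSite.HasSheafHom (O := (Spec R).sheaf) ((tilde.functor R).obj M)]

omit [ModSite.HasSheafHom (O := (Spec R).sheaf) ((tilde.functor R).obj M)] in
/-- Postcomposition. -/
noncomputable def postHom {N N' : ModuleCat.{u} R} (f : N ⟶ N') : homMod R M N ⟶ homMod R M N' :=
  (homFun M).map f

omit [ModSite.HasSheafHom (O := (Spec R).sheaf) ((tilde.functor R).obj M)] in
theorem uφ_natural_right {N N' : ModuleCat.{u} R} (f : N ⟶ N') :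
    uφ M N ≫ (tilde.functor R).map f =
      ((DCoh.tensorBi (X := Spec R)).map ((tilde.functor R).map (postHom M f))).app _ ≫ uφ M N' := by
  rw [← cancel_epi (tildeTensorIso R (homMod R M N) M).hom]
  have h := tildeTensorHom_natural_left R (postHom M f) M
  show tildeTensorHom R (homMod R M N) M ≫ _ = tildeTensorHom R (homMod R M N) M ≫ _
  unfold uφ
  rw [← reassoc_of% h]
  show (tildeTensorIso R (homMod R M N) M).hom ≫ _ =
    (tilde.functor R).map (_ ▷ M) ≫ (tildeTensorIso R _ M).hom ≫ _
  rw [Category.assoc, Iso.hom_inv_id_assoc, Iso.hom_inv_id_assoc, ← Functor.map_comp, ← Functor.map_comp]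
  exact congrArg _ (ModuleCat.MonoidalCategory.tensor_ext fun _ _ => rfl)

theorem φ_natural_right {N N' : ModuleCat.{u} R} (f : N ⟶ N') :
    (tilde.functor R).map ((homFun M).map f) ≫ φ M N' =
      φ M N ≫ (ModSite.sheafHom (O := (Spec R).sheaf) ((tilde.functor R).obj M)).map ((tilde.functor R).map f) := by
  let adj := ModSite.sheafHomAdj (O := (Spec R).sheaf) ((tilde.functor R).obj M)
  refine Eq.trans ?_ (adj.homEquiv_naturality_right (uφ M N) ((tilde.functor R).map f))
  refine ((adj.homEquiv_naturality_left ((tilde.functor R).map ((homFun M).map f)) (uφ M N')).symm.trans ?_)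
  exact congrArg (adj.homEquiv _ _) (uφ_natural_right M f).symm

variable [IsNoetherianRing R] [Module.Finite R M]

theorem isQCoh_sheafHom_finite (N : ModuleCat.{u} R) :
    Coh.IsQCoh ((ModSite.sheafHom (O := (Spec R).sheaf) ((tilde.functor R).obj M)).obj
      ((tilde.functor R).obj N)) := by
  let P := SGA2Fin.res M
  haveI := fun j => SGA2Fin.finite_res M j
  haveI := fun j => SGA2Fin.projective_res M j
  haveI : ∀ j, ModSite.HasSheafHom (O := (Spec R).sheaf) ((tilde.functor R).obj (P.complex.X j)) :=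
    fun j => SheafCoh.hasSheafHom _ _
  let S₀ := ShortComplex.mk (P.complex.d 1 0) (aug P) (d_comp_aug P)
  let S := S₀.map (tilde.functor R)
  haveI : Epi (aug P) := epi_comp _ _
  haveI hg : Epi S.g := inferInstanceAs (Epi ((tilde.functor R).map (aug P)))
  haveI : ModSite.HasSheafHom (O := (Spec R).sheaf) S.X₁ :=
    inferInstanceAs (ModSite.HasSheafHom (O := (Spec R).sheaf) ((tilde.functor R).obj (P.complex.X 1)))
  haveI : ModSite.HasSheafHom (O := (Spec R).sheaf) S.X₂ :=
    inferInstanceAs (ModSite.HasSheafHom (O := (Spec R).sheaf) ((tilde.functor R).obj (P.complex.X 0)))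
  haveI : ModSite.HasSheafHom (O := (Spec R).sheaf) S.X₃ :=
    inferInstanceAs (ModSite.HasSheafHom (O := (Spec R).sheaf) ((tilde.functor R).obj M))
  have hx : S.Exact := (aug_exact P).map (tilde.functor R)
  have he := HomSES20.homSeq_exact S ((tilde.functor R).obj N) hx hg
  haveI : Mono (HomSES20.homSeq S ((tilde.functor R).obj N)).f :=
    HomSES20.mono_homMap S ((tilde.functor R).obj N) hx hg
  haveI : ((HomSES20.homSeq S ((tilde.functor R).obj N)).X₂).IsQuasicoherent :=
    isQCoh_sheafHom (P := P.complex.X 0) N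
  haveI : ((HomSES20.homSeq S ((tilde.functor R).obj N)).X₃).IsQuasicoherent :=
    isQCoh_sheafHom (P := P.complex.X 1) N
  exact @QCoh.isQuasicoherent_of_iso _ (kernel (HomSES20.homSeq S ((tilde.functor R).obj N)).g) _
    (IsLimit.conePointUniqueUpToIso (kernelIsKernel _) he.fIsKernel) (QCoh.isQuasicoherent_kernel _)

theorem isIso_φ_finite (N : ModuleCat.{u} R) : IsIso (φ M N) := by
  have hQ := isQCoh_sheafHom_finite M N
  have := @Scheme.Modules.isIso_fromTildeΓ_of_isQuasicoherent _
    ((ModSite.sheafHom (O := (Spec R).sheaf) ((tilde.functor R).obj M)).obj ((tilde.functor R).obj N)) hQ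
  let e := asIso (Scheme.Modules.fromTildeΓ
    ((ModSite.sheafHom (O := (Spec R).sheaf) ((tilde.functor R).obj M)).obj ((tilde.functor R).obj N)))
  obtain ⟨x, hx⟩ := (bijective_comp_φ (P := M) (N := N)).2 e.hom
  have hx : x ≫ φ M N = e.hom := hx
  refine ⟨e.inv ≫ x, (bijective_comp_φ (M := homMod R M N)).1 ?_, ?_⟩
  · show ((φ M N) ≫ e.inv ≫ x) ≫ φ M N = 𝟙 _ ≫ φ M N
    rw [Category.assoc, Category.assoc, hx, e.inv_hom_id, Category.comp_id, Category.id_comp]
  · rw [Category.assoc, hx, e.inv_hom_id]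

/-- `Hom(M, -)~ ≅ ℋom(M~, (-)~)`. -/
noncomputable def homFunIso :
    homFun M ⋙ tilde.functor R ≅
      tilde.functor R ⋙ (ModSite.sheafHom (O := (Spec R).sheaf) ((tilde.functor R).obj M) :
        (Spec R).Modules ⥤ (Spec R).Modules) :=
  NatIso.ofComponents (fun N => @asIso _ _ _ _ (φ M N) (isIso_φ_finite M N))
    (fun {N N'} f => φ_natural_right M f)

variable (a : Ideal R) (U : (Spec R).Opens) (hU : ∀ y : Spec R, y ∈ U ↔ ¬ a ≤ PrimeSpectrum.asIdeal y)
  [ModSite.HasPushOver (Spec R).sheaf U]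

include hU in
/-- `(Γ_a Hom(M, -))~ ≅ Γ_Z ℋom(M~, (-)~)`. -/
theorem nonempty_torHom_iso :
    Nonempty (torHom a M ⋙ tilde.functor R ≅
      tilde.functor R ⋙ ((ModSite.sheafHom (O := (Spec R).sheaf) ((tilde.functor R).obj M) ⋙
        ModSite.sectOn (Spec R).sheaf U) : (Spec R).Modules ⥤ (Spec R).Modules)) :=
  ⟨Functor.associator _ _ _ ≪≫ Functor.isoWhiskerLeft (homFun M) (tildeTorIso a U hU) ≪≫
    (Functor.associator _ _ _).symm ≪≫
    Functor.isoWhiskerRight (homFunIso M)
      (ModSite.sectOn (Spec R).sheaf U : (Spec R).Modules ⥤ (Spec R).Modules) ≪≫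
    Functor.associator _ _ _⟩

variable [HasInjectiveResolutions (ModSite.Mod (Spec R).sheaf)]

include hU in
/-- `ℰxt^i_Z(M~, N~) ≅ (R^iΓ_a Hom(M, -) (N))~`. -/
theorem nonempty_extZSh_tilde_iso (N : ModuleCat.{u} R) (i : ℕ) :
    Nonempty ((ModSite.extZSh (O := (Spec R).sheaf) U ((tilde.functor R).obj M) i).obj
        ((tilde.functor R).obj N) ≅ (tilde.functor R).obj (((torHom a M).rightDerived i).obj N)) := by
  obtain ⟨e⟩ := nonempty_torHom_iso M a U hU
  haveI : HasInjectiveResolutions (Spec R).Modules := ‹HasInjectiveResolutions (ModSite.Mod (Spec R).sheaf)›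
  let Φ : (Spec R).Modules ⥤ (Spec R).Modules :=
    (ModSite.sheafHom (O := (Spec R).sheaf) ((tilde.functor R).obj M) ⋙ ModSite.sectOn (Spec R).sheaf U)
  haveI : Φ.Additive := inferInstanceAs ((ModSite.sheafHom (O := (Spec R).sheaf)
    ((tilde.functor R).obj M) ⋙ ModSite.sectOn (Spec R).sheaf U).Additive)
  haveI : (tilde.functor R).PreservesHomology := Functor.preservesHomologyOfExact _
  haveI : (tilde.functor R ⋙ Φ).Additive := inferInstance
  exact ⟨(LocZ.rightDerivedPreExactIso (tilde.functor R)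
      (fun J hJ => InjTilde20.injective_tilde J (Module.injective_module_of_injective_object R J))
      Φ i).app N ≪≫
    (SheafCoh.rightDerivedCongr e.symm i).app N ≪≫
    ((ModSupp25.rightDerivedPostIso (torHom a M) (tilde.functor R) i).app N).symm⟩

end GrothLib.ExtZTilde20
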