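import Groth.Agent.Lib.ExtZTilde20.SectTilde
import Mathlib.CategoryTheory.Abelian.Injective.Ext
import Mathlib.CategoryTheory.Abelian.RightDerived
import Mathlib.Algebra.Homology.DerivedCategory.Ext.Linear
import Mathlib.RingTheory.Filtration
import Mathlib.RingTheory.Noetherian.Basic

/-!
# Vanishing and finiteness of `RⁱΓ_a Hom(M, -)`
-/

set_option autoImplicit false
set_option maxHeartbeats 400000
set_option linter.style.haveILetI false
set_option backward.isDefEq.respectTransparency false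

universe u

open CategoryTheory CategoryTheory.Limits CategoryTheory.Abelian

namespace GrothLib.ExtZTilde20

variable {R : CommRingCat.{u}} (a : Ideal R) (M N : ModuleCat.{u} R)

/-- `M ⧸ a^l M`. -/
noncomputable def quotPow (l : ℕ) : ModuleCat.{u} R :=
  ModuleCat.of R (M ⧸ (a ^ l • ⊤ : Submodule R M))

/-- The projection. -/
noncomputable def quotPowπ (l : ℕ) : M ⟶ quotPow a M l :=
  ModuleCat.ofHom (a ^ l • ⊤ : Submodule R M).mkQ

theorem mem_torSub_hom_iff {J : ModuleCat.{u} R} (f : M ⟶ J) :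
    f ∈ torSub a (M ⟶ J) ↔ ∃ l : ℕ, ∀ m ∈ (a ^ l • ⊤ : Submodule R M), f m = 0 := by
  constructor
  · rintro ⟨l, hl⟩
    refine ⟨l, fun m hm => ?_⟩
    refine Submodule.smul_induction_on hm (fun r hr x _ => ?_) (fun x y hx hy => ?_)
    · rw [map_smul]
      exact ConcreteCategory.congr_hom (hl r hr) x
    · rw [map_add, hx, hy, add_zero]
  · rintro ⟨l, hl⟩
    refine ⟨l, fun r hr => ModuleCat.hom_ext (LinearMap.ext fun x => ?_)⟩
    change r • f x = 0
    rw [← map_smul]
    exact hl _ (Submodule.smul_mem_smul hr trivial)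

theorem quotPowπ_comp_mem {J : ModuleCat.{u} R} (l : ℕ) (h : quotPow a M l ⟶ J) :
    quotPowπ a M l ≫ h ∈ torSub a (M ⟶ J) :=
  (mem_torSub_hom_iff a M _).2 ⟨l, fun m hm => by
    change h.hom ((a ^ l • ⊤ : Submodule R M).mkQ m) = 0
    rw [Submodule.mkQ_apply, (Submodule.Quotient.mk_eq_zero _).2 hm, map_zero]⟩

theorem exists_quotPow_fac {J : ModuleCat.{u} R} {f : M ⟶ J} (hf : f ∈ torSub a (M ⟶ J)) :
    ∃ (l : ℕ) (h : quotPow a M l ⟶ J), quotPowπ a M l ≫ h = f := by
  obtain ⟨l, hl⟩ := (mem_torSub_hom_iff a M f).1 hf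
  exact ⟨l, ModuleCat.ofHom ((a ^ l • ⊤ : Submodule R M).liftQ f.hom fun m hm => hl m hm), rfl⟩

theorem epi_quotPowπ (l : ℕ) : Epi (quotPowπ a M l) :=
  (ModuleCat.epi_iff_surjective _).2 (Submodule.mkQ_surjective _)

variable {N}

/-- Torsion cycles which factor through a quotient with vanishing `Ext` are boundaries. -/
theorem exists_boundary (J : InjectiveResolution N) {Q : ModuleCat.{u} R} (p : M ⟶ Q) {k : ℕ}
    (hQ : ∀ l, Subsingleton (Ext (quotPow a Q l) N (k + 1)))
    {f : Q ⟶ J.cocomplex.X (k + 1)} (hf : f ∈ torSub a (Q ⟶ J.cocomplex.X (k + 1)))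
    (hd : f ≫ J.cocomplex.d (k + 1) (k + 2) = 0) :
    ∃ g : M ⟶ J.cocomplex.X k, g ∈ torSub a (M ⟶ J.cocomplex.X k) ∧
      g ≫ J.cocomplex.d k (k + 1) = p ≫ f := by
  obtain ⟨l, h, rfl⟩ := exists_quotPow_fac a Q hf
  haveI := epi_quotPowπ a Q l
  have hd' : h ≫ J.cocomplex.d (k + 1) (k + 2) = 0 := by
    rw [← cancel_epi (quotPowπ a Q l), comp_zero]
    rw [Category.assoc] at hd
    exact hd
  haveI := hQ l
  obtain ⟨g, hg⟩ := (J.extMk_eq_zero_iff h (k + 2) rfl hd' k rfl).1 (Subsingleton.elim _ _)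
  refine ⟨p ≫ quotPowπ a Q l ≫ g, ?_, by simp only [Category.assoc, hg]⟩
  have h1 := quotPowπ_comp_mem a Q l g
  obtain ⟨m, hm⟩ := (mem_torSub_hom_iff a Q _).1 h1
  refine (mem_torSub_hom_iff a M _).2 ⟨m, fun x hx => hm (p x) ?_⟩
  have := Submodule.mem_map_of_mem (f := p.hom) hx
  rw [Submodule.map_smul''] at this
  exact Submodule.smul_mono le_rfl le_top this

omit a M in
theorem smul_extMk (J : InjectiveResolution N) {P : ModuleCat.{u} R} (r : R) {n : ℕ}
    (f : P ⟶ J.cocomplex.X n) (m : ℕ) (hm : n + 1 = m) (hf : f ≫ J.cocomplex.d n m = 0) :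
    J.extMk (r • f) m hm (by rw [Linear.smul_comp, hf, smul_zero]) = r • J.extMk f m hm hf := by
  have h : r • J.extMk f m hm hf =
      (Ext.mk₀ (r • 𝟙 P)).comp (J.extMk f m hm hf) (zero_add n) := by
    rw [Ext.mk₀_smul, Ext.smul_comp, Ext.mk₀_id_comp]
  rw [h, J.mk₀_comp_extMk]
  congr 1
  rw [Linear.smul_comp, Category.id_comp]

/-- The degree zero analogue. -/
theorem eq_zero_of_ext_zero (J : InjectiveResolution N) {Q : ModuleCat.{u} R}
    (hQ : ∀ l, Subsingleton (Ext (quotPow a Q l) N 0))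
    {f : Q ⟶ J.cocomplex.X 0} (hf : f ∈ torSub a (Q ⟶ J.cocomplex.X 0))
    (hd : f ≫ J.cocomplex.d 0 1 = 0) : f = 0 := by
  obtain ⟨l, h, rfl⟩ := exists_quotPow_fac a Q hf
  haveI := epi_quotPowπ a Q l
  have hd' : h ≫ J.cocomplex.d 0 1 = 0 := by
    rw [← cancel_epi (quotPowπ a Q l), comp_zero]
    rw [Category.assoc] at hd
    exact hd
  haveI := hQ l
  obtain ⟨x, hx⟩ : ∃ x : quotPow a Q l ⟶ N, x ≫ J.ι.f 0 = h :=
    ⟨KernelFork.IsLimit.lift' J.isLimitKernelFork h hd' |>.1, (KernelFork.IsLimit.lift' J.isLimitKernelFork h hd').2⟩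
  have : x = 0 := (Ext.mk₀_bijective _ _).1 (Subsingleton.elim (Ext.mk₀ x) (Ext.mk₀ 0))
  rw [← hx, this, zero_comp, comp_zero]

/-- The complex computing `RⁱΓ_a Hom(M, -)`. -/
noncomputable abbrev torHomCx (J : InjectiveResolution N) : CochainComplex (ModuleCat.{u} R) ℕ :=
  ((torHom a M).mapHomologicalComplex _).obj J.cocomplex

theorem torHomCx_d_apply (J : InjectiveResolution N) (i j : ℕ) (x : (torHomCx a M J).X i) :
    ((torHomCx a M J).d i j x).1 = x.1 ≫ J.cocomplex.d i j := rfl

/-- Vanishing from vanishing of `Ext` of the quotients by powers. -/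
theorem isZero_rightDerived_torHom (i : ℕ) (hQ : ∀ l, Subsingleton (Ext (quotPow a M l) N i)) :
    IsZero (((torHom a M).rightDerived i).obj N) := by
  let J := injectiveResolution N
  refine IsZero.of_iso ?_ (J.isoRightDerivedObj (torHom a M) i)
  change IsZero ((torHomCx a M J).homology i)
  rw [← HomologicalComplex.exactAt_iff_isZero_homology]
  cases i with
  | zero =>
    rw [HomologicalComplex.exactAt_iff' _ 0 0 1 (by simp) (by simp), ShortComplex.moduleCat_exact_iff]
    intro x hx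
    refine ⟨0, (map_zero _).trans ?_⟩
    refine (Subtype.ext ?_).symm
    exact eq_zero_of_ext_zero a J hQ x.2 ((congrArg Subtype.val hx : _))
  | succ k =>
    rw [HomologicalComplex.exactAt_iff' _ k (k + 1) (k + 2) (by simp) (by simp),
      ShortComplex.moduleCat_exact_iff]
    intro x hx
    obtain ⟨g, hg, hgd⟩ := exists_boundary a M J (𝟙 M) hQ x.2 (congrArg Subtype.val hx)
    exact ⟨⟨g, hg⟩, Subtype.ext (hgd.trans (Category.id_comp _))⟩

variable [IsNoetherianRing R] [Module.Finite R M]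

/-- The torsion part. -/
noncomputable def torPart : ModuleCat.{u} R := ModuleCat.of R (torSub a M)

/-- The torsion free quotient. -/
noncomputable def freePart : ModuleCat.{u} R := ModuleCat.of R (M ⧸ torSub a M)

/-- Its inclusion. -/
noncomputable def torPartι : torPart a M ⟶ M := ModuleCat.ofHom (torSub a M).subtype

/-- Its projection. -/
noncomputable def freePartπ : M ⟶ freePart a M := ModuleCat.ofHom (torSub a M).mkQ

theorem exists_pow_inf_torSub : ∃ n : ℕ, (a ^ n • ⊤ : Submodule R M) ⊓ torSub a M = ⊥ := by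
  obtain ⟨s, hs⟩ := IsNoetherian.noetherian (torSub a M)
  choose! k hk using fun x (hx : x ∈ torSub a M) => (mem_torSub a).1 hx
  let l := s.sup k
  have hkill : (a ^ l • torSub a M : Submodule R M) = ⊥ := by
    refine le_bot_iff.1 (Submodule.smul_le.2 fun r hr x hx => (Submodule.mem_bot R).2 ?_)
    have hx' : x ∈ Submodule.span R (s : Set M) := hs ▸ hx
    induction hx' using Submodule.span_induction with
    | mem y hy =>
      exact hk y (hs ▸ Submodule.subset_span hy) r
        (Ideal.pow_le_pow_right (Finset.le_sup (f := k) (Finset.mem_coe.1 hy)) hr)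
    | zero => exact smul_zero r
    | add y z hy hz ihy ihz => rw [smul_add, ihy (hs ▸ hy), ihz (hs ▸ hz), add_zero]
    | smul c y hy ihy => rw [smul_comm, ihy (hs ▸ hy), smul_zero]
  obtain ⟨k₀, hk₀⟩ := Ideal.exists_pow_inf_eq_pow_smul a (torSub a M)
  refine ⟨k₀ + l, le_bot_iff.1 ?_⟩
  rw [hk₀ (k₀ + l) (Nat.le_add_right _ _), Nat.add_sub_cancel_left, ← hkill]
  exact Submodule.smul_mono le_rfl inf_le_right

theorem exists_torsion_extension {J : ModuleCat.{u} R} [Injective J] (g : torPart a M ⟶ J) :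
    ∃ g' : M ⟶ J, g' ∈ torSub a (M ⟶ J) ∧ torPartι a M ≫ g' = g := by
  obtain ⟨n, hn⟩ := exists_pow_inf_torSub a M
  have hm : Mono (torPartι a M ≫ quotPowπ a M n) := by
    rw [ModuleCat.mono_iff_injective]
    refine (injective_iff_map_eq_zero (torPartι a M ≫ quotPowπ a M n).hom).2 fun x hx => Subtype.ext ?_
    have h1 : (x.1 : M) ∈ (a ^ n • ⊤ : Submodule R M) := (Submodule.Quotient.mk_eq_zero _).1 hx
    have h2 : (x.1 : M) ∈ (⊥ : Submodule R M) := hn ▸ ⟨h1, x.2⟩
    exact (Submodule.mem_bot R).1 h2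
  refine ⟨quotPowπ a M n ≫ Injective.factorThru g (torPartι a M ≫ quotPowπ a M n),
    quotPowπ_comp_mem a M n _, ?_⟩
  rw [← Category.assoc, Injective.comp_factorThru]

/-- Finiteness from vanishing for the torsion free quotient. -/
theorem moduleFinite_rightDerived_torHom [Module.Finite R N] (i : ℕ)
    [Module.Finite R (Ext (torPart a M) N i)]
    (hQ : ∀ l, Subsingleton (Ext (quotPow a (freePart a M) l) N i)) :
    Module.Finite R (((torHom a M).rightDerived i).obj N) := by
  let J := injectiveResolution N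
  have hfac : ∀ {I : ModuleCat.{u} R} (f : M ⟶ I), f ∈ torSub a (M ⟶ I) → torPartι a M ≫ f = 0 →
      ∃ h : freePart a M ⟶ I, h ∈ torSub a (freePart a M ⟶ I) ∧ freePartπ a M ≫ h = f := by
    intro I f hf h0
    refine ⟨ModuleCat.ofHom ((torSub a M).liftQ f.hom fun m hm =>
      LinearMap.mem_ker.2 (ConcreteCategory.congr_hom h0 (⟨m, hm⟩ : torSub a M))),
      ?_, rfl⟩
    obtain ⟨l, hl⟩ := hf
    refine ⟨l, fun r hr => ModuleCat.hom_ext (LinearMap.ext fun x => ?_)⟩
    obtain ⟨x, rfl⟩ := Submodule.Quotient.mk_surjective _ x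
    exact ConcreteCategory.congr_hom (hl r hr) x
  suffices h : Module.Finite R ((torHomCx a M J).sc i).homology from
    @Module.Finite.equiv _ _ _ _ _ _ _ _ h (J.isoRightDerivedObj (torHom a M) i).toLinearEquiv.symm
  let S := (torHomCx a M J).sc i
  let C := torHomCx a M J
  let Z : Submodule R (C.X i) := LinearMap.ker (C.d i (i + 1)).hom
  have hz : ∀ x : Z, x.1.1 ≫ J.cocomplex.d i (i + 1) = 0 := fun x =>
    congrArg Subtype.val x.2
  -- a linear surjection from the cycles onto the homology killing the boundaries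
  obtain ⟨π, hπ, hπ0⟩ : ∃ π : Z →ₗ[R] S.homology, Function.Surjective π ∧
      ∀ x : Z, (∀ (j : ℕ), j + 1 = i → ∃ y : C.X j, C.d j i y = x.1) ∧ (i = 0 → x = 0) → π x = 0 := by
    have hnext : (ComplexShape.up ℕ).next i = i + 1 := by simp
    have hZ : LinearMap.ker S.g.hom = Z := by
      change LinearMap.ker (C.d i ((ComplexShape.up ℕ).next i)).hom = _
      rw [hnext]
    try rfl
    let q : Z →ₗ[R] S.moduleCatLeftHomologyData.H :=
      S.moduleCatLeftHomologyData.π.hom.comp (LinearEquiv.ofEq _ _ hZ.symm).toLinearMap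
    refine ⟨S.moduleCatHomologyIso.inv.hom.comp q,
      (ConcreteCategory.bijective_of_isIso S.moduleCatHomologyIso.inv).2.comp
        ((Submodule.mkQ_surjective _).comp (LinearEquiv.surjective _)), fun x hx => ?_⟩
    rw [LinearMap.comp_apply]
    convert map_zero S.moduleCatHomologyIso.inv.hom
    refine (Submodule.Quotient.mk_eq_zero _).2 ?_
    obtain ⟨hb, h0⟩ := hx
    cases i with
    | zero =>
      rw [show x = 0 from h0 rfl]
      exact ⟨0, map_zero _⟩
    | succ k =>
      obtain ⟨y, hy⟩ := hb k rfl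
      have hprev : (ComplexShape.up ℕ).prev (k + 1) = k := by simp
      obtain ⟨y', hy'⟩ : ∃ y' : C.X ((ComplexShape.up ℕ).prev (k + 1)),
          C.d ((ComplexShape.up ℕ).prev (k + 1)) (k + 1) y' = x.1 := by
        rw [hprev]; exact ⟨y, hy⟩
      exact ⟨y', Subtype.ext hy'⟩
  cases i with
  | zero =>
    -- cycles in degree zero come from `Hom(M, N)`
    haveI : Module.Finite R (M ⟶ N) := Module.Finite.equiv (ModuleCat.homLinearEquiv (S := R)).symm
    let T : Submodule R (M ⟶ J.cocomplex.X 0) := LinearMap.range (Linear.rightComp R M (show N ⟶ J.cocomplex.X 0 from J.ι.f 0))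
    haveI : Module.Finite R T := Module.Finite.range _
    have hmem : ∀ x : Z, (x.1.1 : M ⟶ J.cocomplex.X 0) ∈ T := fun x =>
      ⟨(KernelFork.IsLimit.lift' J.isLimitKernelFork (x.1.1 : M ⟶ J.cocomplex.X 0) (hz x)).1,
        (KernelFork.IsLimit.lift' J.isLimitKernelFork (x.1.1 : M ⟶ J.cocomplex.X 0) (hz x)).2⟩
    let v : Z →ₗ[R] T :=
      { toFun := fun x => ⟨x.1.1, hmem x⟩
        map_add' := fun x y => rfl
        map_smul' := fun r x => rfl }
    haveI : Module.Finite R Z := Module.Finite.of_injective v fun x y h =>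
      Subtype.ext (Subtype.ext (congrArg (fun t : T => (t.1 : M ⟶ J.cocomplex.X 0)) h))
    exact Module.Finite.of_surjective π hπ
  | succ j =>
    let Ψ : Z →ₗ[R] Ext (torPart a M) N (j + 1) :=
      { toFun := fun x => J.extMk (torPartι a M ≫ x.1.1) (j + 1 + 1) rfl (by rw [Category.assoc, hz, comp_zero])
        map_add' := fun x y => by
          rw [J.add_extMk]
          congr 1
        map_smul' := fun r x => by
          refine Eq.trans ?_ (smul_extMk J r _ _ _ _)
          congr 1 }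
    have hker : LinearMap.ker Ψ ≤ LinearMap.ker π := by
      intro x hx
      refine hπ0 x ⟨fun j' hj' => ?_, fun hi => absurd hi (Nat.succ_ne_zero j)⟩
      have hjj := Nat.succ_injective hj'
      subst j'
      obtain ⟨g, hg⟩ := (J.extMk_eq_zero_iff _ (j + 1 + 1) rfl
        (by rw [Category.assoc, hz, comp_zero]) j rfl).1 hx
      obtain ⟨g', hg', hgg⟩ := exists_torsion_extension a M g
      let φ : M ⟶ J.cocomplex.X (j + 1) := x.1.1
      let f' : C.X (j + 1) := x.1 - C.d j (j + 1) ⟨g', hg'⟩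
      have h0 : torPartι a M ≫ f'.1 = 0 := by
        change torPartι a M ≫ (φ - g' ≫ J.cocomplex.d j (j + 1)) = 0
        rw [Preadditive.comp_sub, ← Category.assoc, hgg, hg, sub_self]
      obtain ⟨h, hh, hh'⟩ := hfac f'.1 f'.2 h0
      have hd : h ≫ J.cocomplex.d (j + 1) (j + 2) = 0 := by
        haveI : Epi (freePartπ a M) := (ModuleCat.epi_iff_surjective _).2 (Submodule.mkQ_surjective _)
        rw [← cancel_epi (freePartπ a M), comp_zero, ← Category.assoc, hh']
        change (φ - g' ≫ J.cocomplex.d j (j + 1)) ≫ _ = 0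
        rw [Preadditive.sub_comp, show φ ≫ J.cocomplex.d (j + 1) (j + 2) = 0 from hz x, Category.assoc, HomologicalComplex.d_comp_d, comp_zero, sub_zero]
      obtain ⟨g'', hg'', hgd⟩ := exists_boundary a M J (freePartπ a M) hQ hh hd
      refine ⟨⟨g', hg'⟩ + ⟨g'', hg''⟩, Subtype.ext ?_⟩
      change (g' + g'') ≫ J.cocomplex.d j (j + 1) = x.1.1
      rw [Preadditive.add_comp, hgd, hh']
      exact add_sub_cancel _ _
    haveI : Module.Finite R (Z ⧸ LinearMap.ker Ψ) := by
      haveI : IsNoetherian R (LinearMap.range Ψ) := inferInstance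
      exact Module.Finite.equiv Ψ.quotKerEquivRange.symm
    exact Module.Finite.of_surjective ((LinearMap.ker Ψ).liftQ π hker)
      (fun z => let ⟨x, hx⟩ := hπ z; ⟨Submodule.Quotient.mk x, hx⟩)

end GrothLib.ExtZTilde20
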