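import Groth.Agent.Lib.ExtZTilde20.Sect
import Groth.Agent.Lib.HomRestrict20.Basic
import Mathlib.AlgebraicGeometry.Modules.Sheaf

/-!
# `ℰxt_Z` commutes with restriction to an open
-/

set_option autoImplicit false
set_option maxHeartbeats 400000
set_option linter.style.haveILetI false
set_option backward.isDefEq.respectTransparency false

universe u

open CategoryTheory CategoryTheory.Limits AlgebraicGeometry Opposite TopologicalSpace

namespace GrothLib.ExtZTilde20

variable {X : Scheme.{u}} (U : X.Opens) [ModSite.HasPushOver X.sheaf U]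

/-- Sections vanishing on `U` are sections with supports. -/
theorem exists_sι_app (N : X.Modules) (W : X.Opens) (s : Γ(N, W))
    (hs : N.presheaf.map (homOfLE (inf_le_left : W ⊓ U ≤ W)).op s = 0) :
    ∃ t : Γ(sectObj U N, W), (sι U N).app W t = s := by
  let g : OX.gen X W ⟶ N := (OX.genHomEquiv W N).symm s
  have hst : ∀ y ∈ U, (OX.stalk y).map g = 0 := by
    intro y hy
    apply ((OX.stalkSkyAdj y).homEquiv (OX.gen X W) ((OX.stalk y).obj N)).injective
    have h1 : (OX.stalkSkyAdj y).homEquiv (OX.gen X W) ((OX.stalk y).obj N) ((OX.stalk y).map g) =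
        g ≫ (OX.stalkSkyAdj y).unit.app N := by
      rw [← Category.comp_id ((OX.stalk y).map g), Adjunction.homEquiv_naturality_left,
        Adjunction.homEquiv_id]
    have h2 : (OX.stalkSkyAdj y).homEquiv (OX.gen X W) ((OX.stalk y).obj N) 0 =
        (0 : OX.gen X W ⟶ N) ≫ (OX.stalkSkyAdj y).unit.app N := by
      rw [Adjunction.homEquiv_unit, Functor.map_zero, comp_zero, zero_comp]
    rw [h1, h2]
    apply (OX.genHomEquiv W _).injective
    rw [OX.genHomEquiv_comp, OX.genHomEquiv_comp]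
    have hz : OX.genHomEquiv W N (0 : OX.gen X W ⟶ N) = 0 := by
      have := OX.genHomEquiv_comp W (0 : OX.gen X W ⟶ N) (0 : N ⟶ N)
      rw [comp_zero] at this
      exact this.trans rfl
    rw [hz, Equiv.apply_symm_apply]
    funext h
    change OX.germ (x := y) (DCoh.toP.obj N) W h.down s = OX.germ (x := y) (DCoh.toP.obj N) W h.down 0
    refine (OX.germ_map (x := y) (DCoh.toP.obj N) (homOfLE (inf_le_left : W ⊓ U ≤ W)) ⟨h.down, hy⟩ s).symm.trans ?_
    exact ((congrArg _ hs).trans (map_zero _)).trans (map_zero _).symm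
  have hv : VanishesOn U g := by
    intro V hV t
    refine TopCat.Presheaf.section_ext ⟨N.presheaf, N.isSheaf⟩ V _ _ fun y hy => ?_
    refine Eq.trans ?_ (map_zero (N.presheaf.germ V y hy).hom).symm
    refine (OX.stalkPre_map_germ (DCoh.toP.map g) V hy t).symm.trans ?_
    exact congrArg (fun k : (OX.stalk y).obj (OX.gen X W) ⟶ (OX.stalk y).obj N =>
      k (OX.germ (DCoh.toP.obj (OX.gen X W)) V hy t)) (hst y (hV hy))
  refine ⟨OX.genHomEquiv W _ (sectLift U g hv), ?_⟩
  refine (OX.genHomEquiv_comp W (sectLift U g hv) (sι U N)).symm.trans ?_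
  rw [sectLift_ι]
  exact Equiv.apply_symm_apply _ _

variable {V : Scheme.{u}} (j : V ⟶ X) [IsOpenImmersion j] [ModSite.HasPushOver V.sheaf (j ⁻¹ᵁ U)]

/-- The restricted inclusion. -/
noncomputable def resι (N : X.Modules) :
    (Scheme.Modules.restrictFunctor j).obj (sectObj U N) ⟶ (Scheme.Modules.restrictFunctor j).obj N :=
  (Scheme.Modules.restrictFunctor j).map (sι U N)

omit [ModSite.HasPushOver V.sheaf (j ⁻¹ᵁ U)] in
theorem mono_resι (N : X.Modules) : Mono (resι U j N) := by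
  haveI : (Scheme.Modules.restrictFunctor j).PreservesMonomorphisms :=
    Functor.preservesMonomorphisms_of_adjunction (CxOX.extZeroAdj j)
  exact inferInstanceAs (Mono ((Scheme.Modules.restrictFunctor j).map (sι U N)))

omit [ModSite.HasPushOver V.sheaf (j ⁻¹ᵁ U)] in
theorem vanishesOn_resι (N : X.Modules) : VanishesOn (j ⁻¹ᵁ U) (resι U j N) := fun W hW s =>
  vanishesOn_sι U N (j ''ᵁ W) (by rintro _ ⟨w, hw, rfl⟩; exact hW hw) s

omit [ModSite.HasPushOver V.sheaf (j ⁻¹ᵁ U)] in
theorem exhausts_resι (N : X.Modules) : Exhausts (j ⁻¹ᵁ U) (resι U j N) := by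
  intro W s hs y hy
  have hle : j ''ᵁ W ⊓ U ≤ j ''ᵁ (W ⊓ j ⁻¹ᵁ U) := by
    rintro _ ⟨⟨w, hw, rfl⟩, hwU⟩
    exact ⟨w, ⟨hw, hwU⟩, rfl⟩
  have h0 : N.presheaf.map (homOfLE (inf_le_left : j ''ᵁ W ⊓ U ≤ j ''ᵁ W)).op s = 0 := by
    have e : j ''ᵁ (W ⊓ j ⁻¹ᵁ U) ≤ j ''ᵁ W := j.image_mono inf_le_left
    rw [Subsingleton.elim (homOfLE (inf_le_left : j ''ᵁ W ⊓ U ≤ j ''ᵁ W)) (homOfLE hle ≫ homOfLE e),
      op_comp, Functor.map_comp, ConcreteCategory.comp_apply]
    exact (congrArg _ hs).trans (map_zero _)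
  obtain ⟨t, ht⟩ := exists_sι_app U N (j ''ᵁ W) s h0
  refine ⟨OX.germ (x := y) (DCoh.toP.obj ((Scheme.Modules.restrictFunctor j).obj (sectObj U N))) W hy t, ?_⟩
  refine (OX.stalkPre_map_germ (DCoh.toP.map (resι U j N)) W hy t).trans ?_
  exact congrArg (OX.germ (x := y) (DCoh.toP.obj ((Scheme.Modules.restrictFunctor j).obj N)) W hy) ht

/-- `Γ_Z(-)|_V ≅ Γ_{Z ∩ V}(-|_V)`. -/
noncomputable def sectRestrictIso :
    (ModSite.sectOn X.sheaf U : X.Modules ⥤ X.Modules) ⋙ Scheme.Modules.restrictFunctor j ≅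
      Scheme.Modules.restrictFunctor j ⋙
        (ModSite.sectOn V.sheaf (j ⁻¹ᵁ U) : V.Modules ⥤ V.Modules) :=
  NatIso.ofComponents
    (fun N => @sectIso _ (j ⁻¹ᵁ U) _ _ _ (resι U j N) (mono_resι U j N) (vanishesOn_resι U j N)
      (exhausts_resι U j N))
    (fun {N N'} g => @sectIso_natural _ (j ⁻¹ᵁ U) _ _ _ _ _ (resι U j N) (mono_resι U j N)
      (vanishesOn_resι U j N) (exhausts_resι U j N) (resι U j N') (mono_resι U j N')
      (vanishesOn_resι U j N') (exhausts_resι U j N') _ _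
      (((Scheme.Modules.restrictFunctor j).map_comp _ _).symm.trans
        ((congrArg (Scheme.Modules.restrictFunctor j).map
          ((ModSite.sectOnι X.sheaf U).naturality g)).trans ((Scheme.Modules.restrictFunctor j).map_comp _ _))))

variable (F : X.Modules) [ModSite.HasSheafHom (O := X.sheaf) F]
  [ModSite.HasSheafHom (O := V.sheaf) ((Scheme.Modules.restrictFunctor j).obj F)]
  [HasInjectiveResolutions (ModSite.Mod X.sheaf)] [HasInjectiveResolutions (ModSite.Mod V.sheaf)]

/-- `ℰxt^q_Z(F, -)|_V ≅ ℰxt^q_{Z ∩ V}(F|_V, -|_V)`. -/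
noncomputable def extZShRestrictIso (q : ℕ) :
    (ModSite.extZSh (O := X.sheaf) U F q : X.Modules ⥤ X.Modules) ⋙ Scheme.Modules.restrictFunctor j ≅
      Scheme.Modules.restrictFunctor j ⋙
        (ModSite.extZSh (O := V.sheaf) (j ⁻¹ᵁ U) ((Scheme.Modules.restrictFunctor j).obj F) q :
          V.Modules ⥤ V.Modules) :=
  haveI := HomRestrict20.additive_restrictFunctor j
  haveI := HomRestrict20.additive_sheafHom F
  haveI := HomRestrict20.additive_sheafHom ((Scheme.Modules.restrictFunctor j).obj F)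
  haveI : (Scheme.Modules.restrictFunctor j).PreservesHomology := Functor.preservesHomologyOfExact _
  let Φ : X.Modules ⥤ X.Modules := ModSite.sheafHom (O := X.sheaf) F ⋙ ModSite.sectOn X.sheaf U
  let Ψ : V.Modules ⥤ V.Modules :=
    ModSite.sheafHom (O := V.sheaf) ((Scheme.Modules.restrictFunctor j).obj F) ⋙
      ModSite.sectOn V.sheaf (j ⁻¹ᵁ U)
  haveI : Φ.Additive := inferInstanceAs
    ((ModSite.sheafHom (O := X.sheaf) F ⋙ ModSite.sectOn X.sheaf U).Additive)
  haveI : Ψ.Additive := inferInstanceAs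
    ((ModSite.sheafHom (O := V.sheaf) ((Scheme.Modules.restrictFunctor j).obj F) ⋙
      ModSite.sectOn V.sheaf (j ⁻¹ᵁ U)).Additive)
  haveI : (Φ ⋙ Scheme.Modules.restrictFunctor j).Additive := inferInstance
  haveI : (Scheme.Modules.restrictFunctor j ⋙ Ψ).Additive := inferInstance
  let e : Φ ⋙ Scheme.Modules.restrictFunctor j ≅ Scheme.Modules.restrictFunctor j ⋙ Ψ :=
    Functor.associator _ _ _ ≪≫
      Functor.isoWhiskerLeft (ModSite.sheafHom (O := X.sheaf) F : X.Modules ⥤ X.Modules)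
        (sectRestrictIso U j) ≪≫
      (Functor.associator _ _ _).symm ≪≫
      Functor.isoWhiskerRight (HomRestrict20.sheafHomRestrictIso j F)
        (ModSite.sectOn V.sheaf (j ⁻¹ᵁ U) : V.Modules ⥤ V.Modules) ≪≫
      Functor.associator _ _ _
  ModSupp25.rightDerivedPostIso Φ (Scheme.Modules.restrictFunctor j) q ≪≫
    SheafCoh.rightDerivedCongr e q ≪≫
    (LocZ.rightDerivedPreExactIso (Scheme.Modules.restrictFunctor j)
      (fun I hI => HomRestrict20.injective_restrictFunctor j I hI) Ψ q).symm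

end GrothLib.ExtZTilde20
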