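import Groth.Agent.Lib.ExtZTilde20.Affine
import Groth.Agent.Lib.ExtZTilde20.Restr
import Groth.Agent.Lib.ExtZTilde20.Algebra
import Groth.Agent.Lib.ExtTilde20.Coh
import Groth.Agent.Lib.DepthExt20.Basic

/-!
# `ℰxt_Z(F, G)` on affine opens of a locally Noetherian scheme
-/

set_option autoImplicit false
set_option maxHeartbeats 400000
set_option linter.style.haveILetI false
set_option linter.unusedSectionVars false
set_option backward.isDefEq.respectTransparency false

universe u

open CategoryTheory CategoryTheory.Limits CategoryTheory.Abelian AlgebraicGeometry Opposite TopologicalSpace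

namespace GrothLib.ExtZTilde20

open ExtTilde20

/-- Isomorphic first arguments give isomorphic `ℰxt_Z`. -/
noncomputable def extZShCongr {X : Scheme.{u}} (U : X.Opens) [HasInjectiveResolutions (ModSite.Mod X.sheaf)]
    {E F : X.Modules} (e : E ≅ F) [ModSite.HasSheafHom (O := X.sheaf) E]
    [ModSite.HasSheafHom (O := X.sheaf) F] (i : ℕ) :
    ModSite.extZSh (O := X.sheaf) U E i ≅ ModSite.extZSh (O := X.sheaf) U F i :=
  SheafCoh.rightDerivedCongr
    (Functor.isoWhiskerRight (LocFreeDual20.homCongrIso e) (ModSite.sectOn X.sheaf U)) i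

section Torsion

variable {R : CommRingCat.{u}} (a : Ideal R) (M : ModuleCat.{u} R)

/-- The quotients by powers are supported on the zero locus. -/
theorem mem_support_quotPow {l : ℕ} {p : PrimeSpectrum R} (hp : p ∈ Module.support R (quotPow a M l)) :
    a ≤ p.asIdeal ∧ p ∈ Module.support R M := by
  refine ⟨?_, Module.support_subset_of_surjective (a ^ l • ⊤ : Submodule R M).mkQ
    (Submodule.mkQ_surjective _) hp⟩
  by_contra hap
  obtain ⟨r, hr, hrp⟩ := SetLike.not_le_iff_exists.1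
    (fun h => hap (Ideal.IsPrime.le_of_pow_le h) : ¬ a ^ l ≤ p.asIdeal)
  obtain ⟨z, hz⟩ := Module.mem_support_iff'.1 hp
  obtain ⟨m, rfl⟩ := Submodule.mkQ_surjective (a ^ l • ⊤ : Submodule R M) z
  refine hz r hrp (((a ^ l • ⊤ : Submodule R M).mkQ.map_smul r m).symm.trans ?_)
  exact (Submodule.Quotient.mk_eq_zero _).2 (Submodule.smul_mem_smul hr trivial)

variable [IsNoetherianRing R] [Module.Finite R M]

/-- A basic open on which the module lives in the zero locus sees only torsion. -/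
theorem notMem_support_freePart {p : PrimeSpectrum R} {f : R} (hf : f ∉ p.asIdeal)
    (h : ∀ q ∈ Module.support R M, f ∉ q.asIdeal → a ≤ q.asIdeal) :
    p ∉ Module.support R (freePart a M) := by
  rw [Module.notMem_support_iff']
  intro z
  obtain ⟨m, rfl⟩ := Submodule.mkQ_surjective (torSub a M) z
  obtain ⟨j, k, hjk⟩ := exists_pow_smul_eq_zero a f m fun g hg => by
    have hrad : f * g ∈ (Module.annihilator R M).radical := by
      rw [← PrimeSpectrum.vanishingIdeal_zeroLocus_eq_radical, PrimeSpectrum.mem_vanishingIdeal]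
      intro q hq
      rw [← Module.support_eq_zeroLocus] at hq
      by_contra hfg
      exact hfg (Ideal.mul_mem_left _ f (h q hq (fun hfq => hfg (Ideal.mul_mem_right g _ hfq)) hg))
    obtain ⟨j, hj⟩ := hrad
    exact ⟨j, Module.mem_annihilator.1 hj m⟩
  refine ⟨f ^ j, fun hfp => hf (p.2.mem_of_pow_mem j hfp), ?_⟩
  refine ((torSub a M).mkQ.map_smul (f ^ j) m).symm.trans ?_
  exact (Submodule.Quotient.mk_eq_zero _).2 ((mem_torSub a).2 ⟨k, hjk⟩)

end Torsion

variable {X : Scheme.{u}} (U : X.Opens) {W : X.Opens} (hW : IsAffineOpen W)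

/-- The ideal of the complement of `U` in an affine open. -/
noncomputable def idealOf : Ideal Γ(X, W) :=
  PrimeSpectrum.vanishingIdeal (R := Γ(X, W)) (SetLike.coe (hW.fromSpec ⁻¹ᵁ U))ᶜ

theorem mem_iff_not_le (y : Spec Γ(X, W)) :
    y ∈ hW.fromSpec ⁻¹ᵁ U ↔ ¬ idealOf U hW ≤ PrimeSpectrum.asIdeal y := by
  have h : PrimeSpectrum.zeroLocus (idealOf U hW : Set Γ(X, W)) = (SetLike.coe (hW.fromSpec ⁻¹ᵁ U))ᶜ := by
    rw [idealOf, PrimeSpectrum.zeroLocus_vanishingIdeal_eq_closure]
    exact (hW.fromSpec ⁻¹ᵁ U).isOpen.isClosed_compl.closure_eq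
  have hy : idealOf U hW ≤ PrimeSpectrum.asIdeal y ↔ y ∈ (SetLike.coe (hW.fromSpec ⁻¹ᵁ U))ᶜ := by
    rw [← h]; rfl
  rw [hy]
  exact not_not.symm

theorem mem_support_secMod {F : X.Modules} [F.IsQuasicoherent] (q : Spec Γ(X, W)) :
    hW.fromSpec q ∈ CohB1.support F ↔ q ∈ Module.support Γ(X, W) (secMod (U := W) F) := by
  have hq : hW.fromSpec q ∈ W :=
    SetLike.mem_coe.1 (hW.range_fromSpec ▸ Set.mem_range_self q)
  rw [QCoh.mem_support_iff_primeAt F hW hq]
  have e : (⟨WeakAss.primeAt (hW.fromSpec q) hq, inferInstance⟩ : PrimeSpectrum Γ(X, W)) = q :=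
    PrimeSpectrum.ext (congrArg PrimeSpectrum.asIdeal ((QCoh.primeAt_eq_primeIdealOf hW hq).trans
      (hW.fromSpec.isOpenEmbedding.injective (hW.fromSpec_primeIdealOf ⟨_, hq⟩))))
  rw [e]

variable [IsLocallyNoetherian X] {F G : X.Modules}

/-- The support of the quotients of `F` on an affine open. -/
theorem mem_support_quotPow_secMod (hF : Coh.IsCoh F) {l : ℕ} {p : Spec Γ(X, W)}
    (hp : p ∈ Module.support Γ(X, W) (quotPow (idealOf U hW) (secMod (U := W) F) l)) :
    hW.fromSpec p ∈ CohB1.support F ∧ hW.fromSpec p ∉ U := by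
  haveI := hF.1
  obtain ⟨ha, hs⟩ := mem_support_quotPow _ _ hp
  exact ⟨(mem_support_secMod hW p).2 hs, fun h => (mem_iff_not_le U hW p).1 h ha⟩

/-- The support of the quotients of the torsion free part of `F` on an affine open. -/
theorem mem_support_quotPow_freePart (hF : Coh.IsCoh F) {l : ℕ} {p : Spec Γ(X, W)}
    (hp : p ∈ Module.support Γ(X, W)
      (quotPow (idealOf U hW) (freePart (idealOf U hW) (secMod (U := W) F)) l)) :
    hW.fromSpec p ∈ closure (CohB1.support F ∩ (U : Set X)) ∧ hW.fromSpec p ∉ U := by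
  haveI := hF.1
  haveI : IsNoetherianRing Γ(X, W) := IsLocallyNoetherian.component_noetherian ⟨W, hW⟩
  haveI : Module.Finite Γ(X, W) (secMod (U := W) F) := QCoh.moduleFinite_of_isFiniteType F hF.2 hW
  obtain ⟨ha, hs⟩ := mem_support_quotPow _ _ hp
  refine ⟨?_, fun h => (mem_iff_not_le U hW p).1 h ha⟩
  by_contra hc
  obtain ⟨V, hV, hpV, hVd⟩ : ∃ V : Set X, IsOpen V ∧ hW.fromSpec p ∈ V ∧
      Disjoint V (CohB1.support F ∩ (U : Set X)) :=
    ⟨_, isClosed_closure.isOpen_compl, hc, Set.disjoint_left.2 fun z hz hz' => hz (subset_closure hz')⟩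
  obtain ⟨_, ⟨f, rfl⟩, hpf, hfV⟩ := PrimeSpectrum.isTopologicalBasis_basic_opens.exists_subset_of_mem_open
    (show p ∈ hW.fromSpec ⁻¹' V from hpV) (hV.preimage hW.fromSpec.continuous)
  refine notMem_support_freePart (idealOf U hW) _ hpf (fun q hq hfq => ?_) hs
  by_contra hq'
  exact Set.disjoint_left.1 hVd (hfV hfq)
    ⟨(mem_support_secMod hW q).2 hq, (mem_iff_not_le U hW q).2 hq'⟩

variable [ModSite.HasSheafHom (O := X.sheaf) F] [HasInjectiveResolutions (ModSite.Mod X.sheaf)]

/-- `ℰxt^i_Z(F, G)` on an affine open. -/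
theorem nonempty_restrict_extZSh_iso (hF : Coh.IsCoh F) (hG : Coh.IsQCoh G) (i : ℕ) :
    Nonempty ((Scheme.Modules.restrictFunctor hW.fromSpec).obj ((ModSite.extZSh (O := X.sheaf) U F i).obj G) ≅
      (tilde.functor Γ(X, W)).obj
        (((torHom (idealOf U hW) (secMod (U := W) F)).rightDerived i).obj (secMod (U := W) G))) := by
  haveI := hF.1
  haveI : G.IsQuasicoherent := hG
  haveI : IsNoetherianRing Γ(X, W) := IsLocallyNoetherian.component_noetherian ⟨W, hW⟩
  haveI : Module.Finite Γ(X, W) (secMod (U := W) F) := QCoh.moduleFinite_of_isFiniteType F hF.2 hW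
  haveI := hasInjectiveResolutions_mod (Spec Γ(X, W))
  haveI := SheafCoh.hasSheafHom (Spec Γ(X, W)).sheaf ((Scheme.Modules.restrictFunctor hW.fromSpec).obj F)
  haveI := SheafCoh.hasSheafHom (Spec Γ(X, W)).sheaf ((tilde.functor Γ(X, W)).obj (secMod F))
  obtain ⟨a⟩ := nonempty_extZSh_tilde_iso (secMod (U := W) F) (idealOf U hW) (hW.fromSpec ⁻¹ᵁ U)
    (fun y => mem_iff_not_le U hW y) (secMod (U := W) G) i
  exact ⟨(extZShRestrictIso U hW.fromSpec F i).app G ≪≫
    (ModSite.extZSh (O := (Spec Γ(X, W)).sheaf) (hW.fromSpec ⁻¹ᵁ U)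
      ((Scheme.Modules.restrictFunctor hW.fromSpec).obj F) i).mapIso (restrictTildeIso hW G) ≪≫
    (extZShCongr (hW.fromSpec ⁻¹ᵁ U) (restrictTildeIso hW F) i).app _ ≪≫ a⟩

/-- `ℰxt_Z` from a coherent to a quasi-coherent module is quasi-coherent. -/
theorem isQCoh_extZSh (hF : Coh.IsCoh F) (hG : Coh.IsQCoh G) (i : ℕ) :
    Coh.IsQCoh ((ModSite.extZSh (O := X.sheaf) U F i).obj G) := by
  refine QCoh.isQuasicoherent_of_forall_fromSpec _ fun W hW => ?_
  obtain ⟨e⟩ := nonempty_restrict_extZSh_iso U hW hF hG i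
  have : ((tilde.functor Γ(X, W)).obj
      (((torHom (idealOf U hW) (secMod (U := W) F)).rightDerived i).obj (secMod (U := W) G))).IsQuasicoherent :=
    inferInstanceAs (tilde (R := Γ(X, W))
      (((torHom (idealOf U hW) (secMod (U := W) F)).rightDerived i).obj (secMod (U := W) G))).IsQuasicoherent
  exact QCoh.isQuasicoherent_of_iso e.symm

/-- Coherence from vanishing of `Ext` on the quotients of the torsion free part. -/
theorem isCoh_extZSh_of_subsingleton (hF : Coh.IsCoh F) (hG : Coh.IsCoh G) (i : ℕ)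
    (h : ∀ (W : X.Opens) (hW : IsAffineOpen W) (l : ℕ),
      Subsingleton (Ext (quotPow (idealOf U hW) (freePart (idealOf U hW) (secMod (U := W) F)) l)
        (secMod (U := W) G) i)) :
    Coh.IsCoh ((ModSite.extZSh (O := X.sheaf) U F i).obj G) := by
  have hq := isQCoh_extZSh U hF hG.1 i
  haveI : ((ModSite.extZSh (O := X.sheaf) U F i).obj G : X.Modules).IsQuasicoherent := hq
  refine ⟨hq, (QCoh.isFiniteType_iff_moduleFinite _).2 fun W hW => ?_⟩
  haveI := hF.1
  haveI := hG.1
  haveI : IsNoetherianRing Γ(X, W) := IsLocallyNoetherian.component_noetherian ⟨W, hW⟩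
  haveI : Module.Finite Γ(X, W) (secMod (U := W) F) := QCoh.moduleFinite_of_isFiniteType F hF.2 hW
  haveI : Module.Finite Γ(X, W) (secMod (U := W) G) := QCoh.moduleFinite_of_isFiniteType G hG.2 hW
  haveI : Module.Finite Γ(X, W) (torPart (idealOf U hW) (secMod (U := W) F)) :=
    Module.Finite.iff_fg.2 (IsNoetherian.noetherian _)
  haveI := moduleFinite_ext (torPart (idealOf U hW) (secMod (U := W) F)) (secMod (U := W) G) i
  obtain ⟨e⟩ := nonempty_restrict_extZSh_iso U hW hF hG.1 i
  have hfin := moduleFinite_rightDerived_torHom (N := secMod (U := W) G) (idealOf U hW) (secMod (U := W) F) i (h W hW)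
  exact @Module.Finite.equiv _ _ _ _ _ _ _ _ hfin ((QCoh.topLinearEquiv hW _).symm ≪≫ₗ
    ((moduleSpecΓFunctor (R := Γ(X, W))).mapIso e).toLinearEquiv ≪≫ₗ
    (tilde.toTildeΓNatIso.app _).symm.toLinearEquiv).symm

/-- Vanishing from vanishing of `Ext` on the quotients. -/
theorem isZero_extZSh_of_subsingleton (hF : Coh.IsCoh F) (hG : Coh.IsQCoh G) (i : ℕ)
    (h : ∀ (W : X.Opens) (hW : IsAffineOpen W) (l : ℕ),
      Subsingleton (Ext (quotPow (idealOf U hW) (secMod (U := W) F) l) (secMod (U := W) G) i)) :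
    IsZero ((ModSite.extZSh (O := X.sheaf) U F i).obj G) := by
  refine OX.isZero_of_subsingleton_stalks ((ModSite.extZSh (O := X.sheaf) U F i).obj G) fun x => ?_
  obtain ⟨_, ⟨W, hW, rfl⟩, hxW, -⟩ :=
    X.isBasis_affineOpens.exists_subset_of_mem_open (Set.mem_univ x) isOpen_univ
  obtain ⟨y, rfl⟩ : ∃ y, hW.fromSpec y = x := by
    have hx : x ∈ Set.range hW.fromSpec := by rw [hW.range_fromSpec]; exact hxW
    exact hx
  obtain ⟨e⟩ := nonempty_restrict_extZSh_iso U hW hF hG i
  have hz := ((tilde.functor Γ(X, W)).map_isZero (isZero_rightDerived_torHom (N := secMod (U := W) G)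
    (idealOf U hW) (secMod (U := W) F) i (h W hW))).of_iso e
  by_contra hne
  exact @OX.support_subset_of_isZero_restrict _ _ hW.fromSpec (IsAffineOpen.isOpenImmersion_fromSpec hW) _ hz _
    hne ⟨y, rfl⟩

end GrothLib.ExtZTilde20
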