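import Groth.Agent.Lib.OX.Exact
import Groth.Prelude.Def_ModSite2
import Mathlib.AlgebraicGeometry.Modules.Sheaf

/-!
# Recognising sections with support in the complement of an open of a scheme
-/

set_option autoImplicit false
set_option maxHeartbeats 400000
set_option linter.style.haveILetI false
set_option backward.isDefEq.respectTransparency false

universe u

open CategoryTheory CategoryTheory.Limits AlgebraicGeometry Opposite TopologicalSpace

namespace GrothLib.ExtZTilde20

variable {X : Scheme.{u}} (U : X.Opens) [ModSite.HasPushOver X.sheaf U]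

/-- A morphism vanishes on the opens inside `U`. -/
def VanishesOn {P N : X.Modules} (g : P ⟶ N) : Prop :=
  ∀ (V : X.Opens) (_ : V ≤ U) (s : Γ(P, V)), g.app V s = 0

/-- Restricting to `U` and being killed below `U` are the same. -/
theorem unit_comp_eq_zero_iff {P N : X.Modules} (g : P ⟶ N) :
    g ≫ ((ModSite.restrPushOverAdj X.sheaf U).unit.app N : N ⟶ _) = 0 ↔ VanishesOn U g := by
  have h1 : g ≫ ((ModSite.restrPushOverAdj X.sheaf U).unit.app N : N ⟶ _) =
      (ModSite.restrPushOverAdj X.sheaf U).homEquiv P _ ((ModSite.restr X.sheaf U).map g) := by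
    rw [Adjunction.homEquiv_unit]
    exact (ModSite.restrPushOverAdj X.sheaf U).unit.naturality g
  have h0 : (ModSite.restrPushOverAdj X.sheaf U).homEquiv P ((ModSite.restr X.sheaf U).obj N) 0 = 0 := by
    have : (ModSite.pushOver X.sheaf U).PreservesZeroMorphisms :=
      Functor.preservesZeroMorphisms_of_isRightAdjoint _
    rw [Adjunction.homEquiv_unit, Functor.map_zero, comp_zero]
  have h2 : g ≫ ((ModSite.restrPushOverAdj X.sheaf U).unit.app N : N ⟶ _) = 0 ↔
      (ModSite.restr X.sheaf U).map g = 0 := by
    constructor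
    · intro h
      exact ((ModSite.restrPushOverAdj X.sheaf U).homEquiv P _).injective ((h1.symm.trans h).trans h0.symm)
    · intro h
      exact h1.trans ((congrArg _ h).trans h0)
  rw [h2]
  constructor
  · intro h V hV s
    exact congrArg (fun k : (ModSite.restr X.sheaf U).obj P ⟶ (ModSite.restr X.sheaf U).obj N =>
      (k.val.app (op (Over.mk (homOfLE hV)))).hom s) h
  · intro h
    refine SheafOfModules.hom_ext (PresheafOfModules.hom_ext fun V => ?_)
    ext s
    exact h V.unop.left V.unop.hom.le s

/-- The inclusion of the sections with supports, as a morphism of `X.Modules`. -/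
noncomputable abbrev sectObj (N : X.Modules) : X.Modules := (ModSite.sectOn X.sheaf U).obj N

/-- The inclusion. -/
noncomputable def sι (N : X.Modules) : sectObj U N ⟶ N :=
  (ModSite.sectOnι X.sheaf U).app N

instance mono_sι (N : X.Modules) : Mono (sι U N) :=
  inferInstanceAs (Mono (kernel.ι ((ModSite.restrPushOverAdj X.sheaf U).unit.app N)))

theorem vanishesOn_sι (N : X.Modules) : VanishesOn U (sι U N) :=
  (unit_comp_eq_zero_iff U _).1 (kernel.condition _)

/-- The candidate kernel maps to the sections with supports. -/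
noncomputable def sectLift {K N : X.Modules} (i : K ⟶ N) (h : VanishesOn U i) :
    K ⟶ sectObj U N :=
  kernel.lift ((ModSite.restrPushOverAdj X.sheaf U).unit.app N) i ((unit_comp_eq_zero_iff U i).2 h)

@[reassoc (attr := simp)]
theorem sectLift_ι {K N : X.Modules} (i : K ⟶ N) (h : VanishesOn U i) :
    sectLift U i h ≫ sι U N = i := kernel.lift_ι _ _ _

/-- Sections with germs in the image. -/
def Exhausts {K N : X.Modules} (i : K ⟶ N) : Prop :=
  ∀ (W : X.Opens) (s : Γ(N, W)), N.presheaf.map (homOfLE (inf_le_left : W ⊓ U ≤ W)).op s = 0 →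
    ∀ (x : X) (hx : x ∈ W),
      ∃ b : (OX.stalk x).obj K, (OX.stalk x).map i b = OX.germ (DCoh.toP.obj N) W hx s

theorem isIso_sectLift {K N : X.Modules} (i : K ⟶ N) [Mono i] (h : VanishesOn U i) (he : Exhausts U i) :
    IsIso (sectLift U i h) := by
  haveI : Mono (sectLift U i h) := mono_of_mono_fac (sectLift_ι U i h)
  haveI : Epi (sectLift U i h) := (OX.epi_iff _).2 fun x => by
    rw [ModuleCat.epi_iff_surjective]
    intro e
    obtain ⟨W, hW, t, rfl⟩ := OX.germ_exists (DCoh.toP.obj _) e
    have hs : N.presheaf.map (homOfLE (inf_le_left : W ⊓ U ≤ W)).op ((sι U N).app W t) = 0 := by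
      refine (ConcreteCategory.congr_hom ((sι U N).mapPresheaf.naturality
        (homOfLE (inf_le_left : W ⊓ U ≤ W)).op) t).symm.trans ?_
      exact vanishesOn_sι U N _ inf_le_right _
    obtain ⟨b, hb⟩ := he W _ hs x hW
    refine ⟨b, (ModuleCat.mono_iff_injective ((OX.stalk x).map (sι U N))).1 inferInstance ?_⟩
    refine (ConcreteCategory.congr_hom ((OX.stalk x).map_comp (sectLift U i h) (sι U N)).symm b).trans ?_
    rw [sectLift_ι]
    exact hb.trans (OX.stalkPre_map_germ (DCoh.toP.map (sι U N)) W hW t).symm
  exact isIso_of_mono_of_epi _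

/-- The recognition isomorphism. -/
noncomputable def sectIso {K N : X.Modules} (i : K ⟶ N) [Mono i] (h : VanishesOn U i) (he : Exhausts U i) :
    K ≅ sectObj U N :=
  haveI := isIso_sectLift U i h he
  asIso (sectLift U i h)

theorem sectIso_natural {K N K' N' : X.Modules} (i : K ⟶ N) [Mono i] (h : VanishesOn U i) (he : Exhausts U i)
    (i' : K' ⟶ N') [Mono i'] (h' : VanishesOn U i') (he' : Exhausts U i') (f : K ⟶ K') (g : N ⟶ N')
    (w : f ≫ i' = i ≫ g) :
    f ≫ (sectIso U i' h' he').hom =
      (sectIso U i h he).hom ≫ ((ModSite.sectOn X.sheaf U).map g :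
        sectObj U N ⟶ sectObj U N') := by
  rw [← cancel_mono (sι U N'), Category.assoc, Category.assoc]
  have hn : ((ModSite.sectOn X.sheaf U).map g :
        sectObj U N ⟶ sectObj U N') ≫ sι U N' =
      sι U N ≫ g := (ModSite.sectOnι X.sheaf U).naturality g
  rw [hn]
  change f ≫ sectLift U i' h' ≫ sι U N' = sectLift U i h ≫ sι U N ≫ g
  rw [sectLift_ι, sectLift_ι_assoc, w]

end GrothLib.ExtZTilde20
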