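import Groth.Agent.Lib.ExtZTilde20.Torsion
import Groth.Agent.Lib.ExtZTilde20.Sect
import Mathlib.AlgebraicGeometry.Modules.Tilde
import Mathlib.RingTheory.Ideal.Operations

/-!
# `Γ_Z(W~) = (Γ_a W)~` on a Noetherian affine scheme
-/

set_option autoImplicit false
set_option maxHeartbeats 400000
set_option linter.style.haveILetI false
set_option backward.isDefEq.respectTransparency false

universe u

open CategoryTheory CategoryTheory.Limits AlgebraicGeometry Opposite TopologicalSpace

namespace GrothLib.ExtZTilde20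

theorem exists_pow_smul_eq_zero {R : Type u} [CommRing R] [IsNoetherianRing R] {W : Type u}
    [AddCommGroup W] [Module R W] (a : Ideal R) (f : R) (m : W)
    (h : ∀ g ∈ a, ∃ j : ℕ, (f * g) ^ j • m = 0) :
    ∃ j k : ℕ, ∀ r ∈ a ^ k, r • f ^ j • m = 0 := by
  let J : Ideal R :=
    { carrier := {r | ∃ j : ℕ, r • f ^ j • m = 0}
      zero_mem' := ⟨0, zero_smul _ _⟩
      add_mem' := by
        rintro r s ⟨i, hi⟩ ⟨j, hj⟩
        refine ⟨i + j, ?_⟩
        have e1 : r • f ^ (i + j) • m = f ^ j • (r • f ^ i • m) := by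
          simp only [smul_smul]; congr 1; ring
        have e2 : s • f ^ (i + j) • m = f ^ i • (s • f ^ j • m) := by
          simp only [smul_smul]; congr 1; ring
        rw [add_smul, e1, e2, hi, hj, smul_zero, smul_zero, add_zero]
      smul_mem' := by
        rintro c r ⟨j, hj⟩
        exact ⟨j, by rw [smul_eq_mul, mul_smul, hj, smul_zero]⟩ }
  have hrad : a ≤ J.radical := fun g hg => by
    obtain ⟨j, hj⟩ := h g hg
    refine ⟨j, j, ?_⟩
    rw [smul_smul, ← mul_pow, mul_comm g f]
    exact hj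
  obtain ⟨k, hk⟩ := Ideal.exists_pow_le_of_le_radical_of_fg hrad (IsNoetherian.noetherian a)
  obtain ⟨t, ht⟩ := IsNoetherian.noetherian (a ^ k)
  choose! j hj using fun r (hr : r ∈ a ^ k) => (hk hr : r ∈ J)
  refine ⟨t.sup j, k, fun r hr => ?_⟩
  have hr' : r ∈ Submodule.span R (t : Set R) := ht ▸ hr
  induction hr' using Submodule.span_induction with
  | mem g hg =>
    have hg' : g ∈ a ^ k := ht ▸ Submodule.subset_span hg
    have e : g • f ^ t.sup j • m = f ^ (t.sup j - j g) • (g • f ^ j g • m) := by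
      simp only [smul_smul]
      congr 1
      rw [mul_left_comm, ← pow_add, Nat.sub_add_cancel (Finset.le_sup (Finset.mem_coe.1 hg))]
    rw [e, hj g hg', smul_zero]
  | zero => exact zero_smul _ _
  | add x y hx hy ihx ihy => rw [add_smul, ihx (ht ▸ hx), ihy (ht ▸ hy), add_zero]
  | smul c x hx ihx => rw [smul_eq_mul, mul_smul, ihx (ht ▸ hx), smul_zero]

variable {R : CommRingCat.{u}} (a : Ideal R) (U : (Spec R).Opens)
  (hU : ∀ y : Spec R, y ∈ U ↔ ¬ a ≤ PrimeSpectrum.asIdeal y) (W : ModuleCat.{u} R)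

/-- The candidate inclusion. -/
noncomputable def tildeι : (tilde.functor R).obj ((tor a).obj W) ⟶ (tilde.functor R).obj W :=
  (tilde.functor R).map ((torι a).app W)

instance mono_tildeι : Mono (tildeι a W) := by
  haveI : PreservesFiniteLimits (tilde.functor R) := inferInstance
  exact inferInstanceAs (Mono ((tilde.functor R).map ((torι a).app W)))

include hU in
theorem subsingleton_stalk_tor (y : Spec R) (hy : y ∈ U) :
    Subsingleton ((tilde ((tor a).obj W)).presheaf.stalk y) := by
  refine subsingleton_of_forall_eq 0 fun z => ?_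
  obtain ⟨⟨m, t⟩, ht⟩ := IsLocalizedModule.surj (PrimeSpectrum.asIdeal y).primeCompl
    (tilde.toStalk ((tor a).obj W) y).hom z
  obtain ⟨r, hr, hr'⟩ := SetLike.not_le_iff_exists.1 ((hU y).1 hy)
  obtain ⟨n, hn⟩ := m.2
  have hm0 : (tilde.toStalk ((tor a).obj W) y).hom m = 0 := by
    refine IsLocalizedModule.smul_injective (tilde.toStalk ((tor a).obj W) y).hom
      (⟨r ^ n, fun h => hr' (y.isPrime.mem_of_pow_mem n h)⟩ : (PrimeSpectrum.asIdeal y).primeCompl) ?_
    change r ^ n • (tilde.toStalk ((tor a).obj W) y).hom m = r ^ n • 0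
    rw [← map_smul, show r ^ n • m = 0 from Subtype.ext (hn _ (Ideal.pow_mem_pow hr n)), map_zero,
      smul_zero]
  have h2 : t • z = 0 := ht.trans hm0
  exact (IsLocalizedModule.smul_injective (tilde.toStalk ((tor a).obj W) y).hom t)
    (h2.trans (smul_zero _).symm)

include hU in
theorem vanishesOn_tildeι : VanishesOn U (tildeι a W) := by
  intro V hV s
  refine TopCat.Presheaf.section_ext
    ⟨(tilde W).presheaf, (tilde W).isSheaf⟩ V _ _ fun y hy => ?_
  refine Eq.trans ?_ (map_zero ((tilde W).presheaf.germ V y hy).hom).symm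
  refine (OX.stalkPre_map_germ (DCoh.toP.map (tildeι a W)) V hy s).symm.trans ?_
  haveI := subsingleton_stalk_tor a U hU W y (hV hy)
  refine (congrArg _ (Subsingleton.elim (α := (tilde ((tor a).obj W)).presheaf.stalk y) _ 0)).trans ?_
  exact map_zero _

variable [IsNoetherianRing R]

include hU in
theorem exhausts_tildeι : Exhausts U (tildeι a W) := by
  intro V s hs x hx
  by_cases hxU : x ∈ U
  · refine ⟨0, (map_zero _).trans ?_⟩
    refine Eq.trans ?_ (OX.germ_map (x := x) (DCoh.toP.obj ((tilde.functor R).obj W))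
      (homOfLE (inf_le_left : V ⊓ U ≤ V)) ⟨hx, hxU⟩ s)
    exact ((congrArg _ hs).trans (map_zero _)).symm
  obtain ⟨⟨m, t⟩, ht⟩ := IsLocalizedModule.surj (PrimeSpectrum.asIdeal x).primeCompl
    (tilde.toStalk W x).hom ((tilde W).presheaf.germ V x hx s)
  let c : Γ(Spec R, V) := (Spec R).presheaf.map (homOfLE le_top).op ((Scheme.ΓSpecIso R).inv (t : R))
  have h1 : (tilde W).presheaf.germ V x hx (c • s) = (t : R) • (tilde W).presheaf.germ V x hx s := by
    refine (OX.germ_smul' (x := x) (DCoh.toP.obj (tilde W)) V hx c s).trans ?_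
    dsimp only [c]
    rw [TopCat.Presheaf.germ_res_apply]
    rfl
  obtain ⟨V', hxV', i₁, i₂, he⟩ := TopCat.Presheaf.germ_eq (tilde W).presheaf x hx (V := ⊤) trivial
    (c • s) (tilde.toOpen W ⊤ m) (h1.trans ht)
  obtain ⟨_, ⟨f, rfl⟩, hxf, hfV⟩ := PrimeSpectrum.isTopologicalBasis_basic_opens.exists_subset_of_mem_open
    (show x ∈ (SetLike.coe V') from hxV') V'.2
  have hkill : ∀ g ∈ a, ∃ j : ℕ, (f * g) ^ j • m = 0 := by
    intro g hg
    let D : (Spec R).Opens := PrimeSpectrum.basicOpen (f * g)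
    have hDV' : D ≤ V' := fun y hy => hfV (PrimeSpectrum.basicOpen_mul_le_left f g hy)
    have hDU : D ≤ U := fun y hy => (hU y).2 fun hle => by
      have h2 := PrimeSpectrum.basicOpen_mul_le_right f g hy
      exact h2 (hle hg)
    have e0 : tilde.toOpen W D m = 0 := by
      have e1 := congrArg ((tilde W).presheaf.map (homOfLE hDV').op) he
      have e2 : (tilde W).presheaf.map (homOfLE hDV').op
          ((tilde W).presheaf.map i₂.op (tilde.toOpen W ⊤ m)) = tilde.toOpen W D m :=
        (congrArg _ (ConcreteCategory.congr_hom (tilde.toOpen_res W ⊤ V' i₂) m)).trans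
          (ConcreteCategory.congr_hom (tilde.toOpen_res W V' D (homOfLE hDV')) m)
      rw [← e2, ← e1, ← ConcreteCategory.comp_apply, ← Functor.map_comp, ← op_comp,
        Subsingleton.elim (homOfLE hDV' ≫ i₁)
          (homOfLE (le_inf (hDV'.trans i₁.le) hDU) ≫ homOfLE (inf_le_left : V ⊓ U ≤ V)),
        op_comp, Functor.map_comp, ConcreteCategory.comp_apply, Scheme.Modules.map_smul]
      erw [hs]
      rw [smul_zero, map_zero]
    obtain ⟨⟨_, j, rfl⟩, hj⟩ := (IsLocalizedModule.eq_zero_iff (Submonoid.powers (f * g))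
      (tilde.toOpen W D).hom).1 e0
    exact ⟨j, hj⟩
  obtain ⟨j, k, hjk⟩ := exists_pow_smul_eq_zero a f m hkill
  let w : (tor a).obj W := ⟨f ^ j • m, k, hjk⟩
  have hu : IsUnit ((StructureSheaf.toStalk R x).hom (f ^ j * t)) := by
    letI : Algebra R ((Spec R).presheaf.stalk x) := (StructureSheaf.toStalk R x).hom.toAlgebra
    haveI : IsLocalization.AtPrime ((Spec R).presheaf.stalk x) (PrimeSpectrum.asIdeal x) :=
      StructureSheaf.IsLocalization.to_stalk R x
    exact IsLocalization.map_units ((Spec R).presheaf.stalk x)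
      (⟨f ^ j * t, Submonoid.mul_mem _ (Submonoid.pow_mem _
        (show f ∈ (PrimeSpectrum.asIdeal x).primeCompl from hxf) j) t.2⟩ :
        (PrimeSpectrum.asIdeal x).primeCompl)
  obtain ⟨v, hv⟩ := hu
  let b₀ : (OX.stalk x).obj ((tilde.functor R).obj ((tor a).obj W)) :=
    OX.germ (DCoh.toP.obj (tilde ((tor a).obj W))) ⊤ trivial (tilde.toOpen ((tor a).obj W) ⊤ w)
  have hb₀ : (OX.stalk x).map (tildeι a W) b₀ = (tilde.toStalk W x).hom (f ^ j • m) := by
    refine (OX.stalkPre_map_germ (DCoh.toP.map (tildeι a W)) ⊤ trivial _).trans ?_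
    refine congrArg (OX.germ (x := x) (DCoh.toP.obj (tilde W)) ⊤ trivial) ?_
    exact ConcreteCategory.congr_hom (tilde.toOpen_map_app ((torι a).app W) ⊤) w
  let vi : (Spec R).presheaf.stalk x := Units.val v⁻¹
  refine ⟨vi • b₀, ?_⟩
  refine (((OX.stalk x).map (tildeι a W)).hom.map_smul _ b₀).trans ?_
  refine (congrArg (vi • ·) hb₀).trans ?_
  have e3 : (tilde.toStalk W x).hom (f ^ j • m) =
      (show (Spec R).presheaf.stalk x from Units.val v) •
        OX.germ (x := x) (DCoh.toP.obj (tilde W)) V hx s := by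
    refine ((tilde.toStalk W x).hom.map_smul (f ^ j) m).trans ?_
    refine (congrArg (f ^ j • ·) ht.symm).trans ?_
    refine (smul_smul (f ^ j) (t : R) ((tilde W).presheaf.germ V x hx s)).trans ?_
    rw [hv]
    rfl
  refine (congrArg (vi • ·) e3).trans ?_
  refine (smul_smul _ _ _).trans ?_
  refine (congrArg (· • _) (Units.inv_mul v)).trans ?_
  refine (one_smul _ _).trans ?_
  rfl

/-- `(Γ_a -)~ ≅ Γ_Z((-)~)`. -/
noncomputable def tildeTorIso [ModSite.HasPushOver (Spec R).sheaf U] :
    tor a ⋙ tilde.functor R ≅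
      tilde.functor R ⋙ (ModSite.sectOn (Spec R).sheaf U : (Spec R).Modules ⥤ (Spec R).Modules) :=
  NatIso.ofComponents
    (fun W => @sectIso _ U _ _ _ (tildeι a W) (mono_tildeι a W) (vanishesOn_tildeι a U hU W) (exhausts_tildeι a U hU W))
    (fun {W W'} g => @sectIso_natural _ U _ _ _ _ _ (tildeι a W) (mono_tildeι a W)
      (vanishesOn_tildeι a U hU W) (exhausts_tildeι a U hU W) (tildeι a W') (mono_tildeι a W')
      (vanishesOn_tildeι a U hU W') (exhausts_tildeι a U hU W') _ _
      (((tilde.functor R).map_comp _ _).symm.trans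
        ((congrArg (tilde.functor R).map ((torι a).naturality g)).trans ((tilde.functor R).map_comp _ _))))

end GrothLib.ExtZTilde20
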