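import Groth.Agent.Lib.ExtTilde20.Hom
import Mathlib.CategoryTheory.Linear.Yoneda
import Mathlib.Algebra.Category.ModuleCat.Abelian

/-!
# Power torsion submodules, and `Γ_a Hom(M, -)`
-/

set_option autoImplicit false
set_option maxHeartbeats 400000
set_option linter.style.haveILetI false
set_option backward.isDefEq.respectTransparency false

universe u

open CategoryTheory CategoryTheory.Limits

namespace GrothLib.ExtZTilde20

variable {R : CommRingCat.{u}} (a : Ideal R)

/-- The elements killed by a power of `a`. -/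
def torSub (W : Type u) [AddCommGroup W] [Module R W] : Submodule R W where
  carrier := {w | ∃ k : ℕ, ∀ r ∈ a ^ k, r • w = 0}
  zero_mem' := ⟨0, fun r _ => smul_zero r⟩
  add_mem' := by
    rintro x y ⟨k, hk⟩ ⟨l, hl⟩
    refine ⟨k + l, fun r hr => ?_⟩
    rw [smul_add, hk r (Ideal.pow_le_pow_right (Nat.le_add_right k l) hr),
      hl r (Ideal.pow_le_pow_right (Nat.le_add_left l k) hr), add_zero]
  smul_mem' := by
    rintro c x ⟨k, hk⟩
    exact ⟨k, fun r hr => by rw [smul_comm, hk r hr, smul_zero]⟩

theorem mem_torSub {W : Type u} [AddCommGroup W] [Module R W] {w : W} :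
    w ∈ torSub a W ↔ ∃ k : ℕ, ∀ r ∈ a ^ k, r • w = 0 := Iff.rfl

theorem map_mem_torSub {W W' : Type u} [AddCommGroup W] [Module R W] [AddCommGroup W'] [Module R W']
    (f : W →ₗ[R] W') {w : W} (hw : w ∈ torSub a W) : f w ∈ torSub a W' := by
  obtain ⟨k, hk⟩ := hw
  exact ⟨k, fun r hr => by rw [← map_smul, hk r hr, map_zero]⟩

/-- `Γ_a` as a functor. -/
noncomputable def tor : ModuleCat.{u} R ⥤ ModuleCat.{u} R where
  obj W := ModuleCat.of R (torSub a W)
  map {W W'} f := ModuleCat.ofHom ((f.hom.comp (torSub a W).subtype).codRestrict (torSub a W')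
    fun w => map_mem_torSub a f.hom w.2)
  map_id _ := rfl
  map_comp _ _ := rfl

instance : (tor a).Additive where
  map_add {W W'} {f g} := rfl

/-- The inclusion `Γ_a ⟶ 𝟭`. -/
noncomputable def torι : tor a ⟶ 𝟭 (ModuleCat.{u} R) where
  app W := ModuleCat.ofHom (torSub a W).subtype
  naturality _ _ _ := rfl

instance mono_torι (W : ModuleCat.{u} R) : Mono ((torι a).app W) :=
  (ModuleCat.mono_iff_injective _).2 (torSub a W).subtype_injective

variable (M : ModuleCat.{u} R)

/-- `Hom(M, -)`. -/
noncomputable def homFun : ModuleCat.{u} R ⥤ ModuleCat.{u} R where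
  obj N := ExtTilde20.homMod R M N
  map {N N'} f := ModuleCat.ofHom (Linear.rightComp R M f)
  map_id N := by ext g x; rfl
  map_comp f g := by ext h x; rfl

instance : (homFun M).Additive where
  map_add {N N'} {f g} := by ext h; exact Preadditive.comp_add _ _ _ h f g

/-- `Γ_a Hom(M, -)`. -/
noncomputable def torHom : ModuleCat.{u} R ⥤ ModuleCat.{u} R := homFun M ⋙ tor a

instance : (torHom a M).Additive := inferInstanceAs ((homFun M ⋙ tor a).Additive)

end GrothLib.ExtZTilde20
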